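import Cfsg.Agent.Lib.Fusion.Alperin
import Cfsg.Agent.Lib.Frobenius.NilpotentMaximal

/-!
A Sylow `2`-subgroup of class at most two contained in a nilpotent subgroup that contains the
normalizers of its invariant normal subgroups: basic lemmas and the reduction to local subgroups
containing the centre.
-/

set_option autoImplicit false
set_option linter.style.haveILetI false

namespace CfsgLib.Frobenius.ClassTwo

open Subgroup
open scoped Pointwise

universe u

variable {G : Type u} [Group G]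

/-- The situation studied: a Sylow `2`-subgroup `P` of class at most two inside a nilpotent `M`
which contains the normalizers of the non-trivial `Γ`-invariant normal subgroups of `P`. -/
structure Setting (G : Type u) [Group G] where
  P : Sylow 2 G
  M : Subgroup G
  nil : Group.IsNilpotent M
  le_M : (P : Subgroup G) ≤ M
  ne_bot : (P : Subgroup G) ≠ ⊥
  cls : ∀ a ∈ (P : Subgroup G), ∀ b ∈ (P : Subgroup G), ∀ c ∈ (P : Subgroup G),
    Commute (a * b * a⁻¹ * b⁻¹) c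
  Γ : Set (MulAut G)
  odd_Γ : ∀ σ ∈ Γ, Odd (orderOf σ)
  inv_P : ∀ σ ∈ Γ, ∀ x ∈ (P : Subgroup G), σ x ∈ (P : Subgroup G)
  loc : ∀ X : Subgroup G, X ≤ (P : Subgroup G) → X ≠ ⊥ →
    (P : Subgroup G) ≤ normalizer (X : Set G) → (∀ σ ∈ Γ, ∀ x ∈ X, σ x ∈ X) →
    normalizer (X : Set G) ≤ M

namespace Setting

variable (S : Setting G)

/-- The centre of `P` inside `G`. -/
def Z : Subgroup G := (S.P : Subgroup G) ⊓ centralizer ((S.P : Subgroup G) : Set G)

theorem Z_le : S.Z ≤ (S.P : Subgroup G) := inf_le_left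

variable {S} in
theorem comm_Z {z a : G} (hz : z ∈ S.Z) (ha : a ∈ (S.P : Subgroup G)) : Commute a z :=
  mem_centralizer_iff.1 hz.2 a ha

variable {S} in
theorem mem_Z {z : G} (hz : z ∈ (S.P : Subgroup G))
    (h : ∀ a ∈ (S.P : Subgroup G), Commute a z) : z ∈ S.Z :=
  ⟨hz, mem_centralizer_iff.2 fun a ha => (h a ha).eq⟩

variable {S} in
theorem commutator_mem {a b : G} (ha : a ∈ (S.P : Subgroup G)) (hb : b ∈ (S.P : Subgroup G)) :
    a * b * a⁻¹ * b⁻¹ ∈ S.Z :=
  mem_Z (mul_mem (mul_mem (mul_mem ha hb) (inv_mem ha)) (inv_mem hb))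
    fun c hc => (S.cls a ha b hb c hc).symm

/-- A subgroup of `P` containing the centre is normal in `P`. -/
theorem conj_mem {X : Subgroup G} (hZ : S.Z ≤ X) (hX : X ≤ (S.P : Subgroup G)) {a q : G}
    (ha : a ∈ (S.P : Subgroup G)) (hq : q ∈ X) : a * q * a⁻¹ ∈ X := by
  rw [show a * q * a⁻¹ = a * q * a⁻¹ * q⁻¹ * q by group]
  exact mul_mem (hZ (commutator_mem ha (hX hq))) hq

theorem le_normalizer {X : Subgroup G} (hZ : S.Z ≤ X) (hX : X ≤ (S.P : Subgroup G)) :
    (S.P : Subgroup G) ≤ normalizer (X : Set G) := fun a ha =>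
  mem_normalizer_iff.2 fun q => ⟨S.conj_mem hZ hX ha, fun h => by
    simpa [mul_assoc] using S.conj_mem hZ hX (inv_mem ha) h⟩

/-- The Sylow subgroup `P` is normal in `M`. -/
theorem conj_P_mem [Finite G] {m b : G} (hm : m ∈ S.M) (hb : b ∈ (S.P : Subgroup G)) :
    m * b * m⁻¹ ∈ (S.P : Subgroup G) := by
  haveI : Fact (Nat.Prime 2) := ⟨Nat.prime_two⟩
  haveI := S.nil
  have hn : ((S.P.subtype S.le_M : Sylow 2 S.M) : Subgroup S.M).Normal :=
    (S.P.subtype S.le_M).normal_of_normalizerCondition Group.normalizerCondition_of_isNilpotent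
  exact hn.conj_mem ⟨b, S.le_M hb⟩ hb ⟨m, hm⟩

theorem M_le_normalizer_P [Finite G] : S.M ≤ normalizer ((S.P : Subgroup G) : Set G) := fun m hm =>
  mem_normalizer_iff.2 fun b => ⟨S.conj_P_mem hm, fun h => by
    simpa [mul_assoc] using S.conj_P_mem (inv_mem hm) h⟩

/-- The `2`-elements of `M` lie in `P`. -/
theorem mem_P [Finite G] {m : G} (hm : m ∈ S.M) {k : ℕ} (hk : m ^ 2 ^ k = 1) :
    m ∈ (S.P : Subgroup G) := by
  haveI : Fact (Nat.Prime 2) := ⟨Nat.prime_two⟩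
  obtain ⟨i, -, hi⟩ := (Nat.dvd_prime_pow Nat.prime_two).1 (orderOf_dvd_of_pow_eq_one hk)
  have hz : IsPGroup 2 (zpowers m) := IsPGroup.of_card (n := i) (by rw [Nat.card_zpowers, hi])
  have hsup : IsPGroup 2 ((S.P : Subgroup G) ⊔ zpowers m : Subgroup G) :=
    S.P.2.to_sup_of_normal_left' hz ((zpowers_le.2 hm).trans S.M_le_normalizer_P)
  rw [← S.P.is_maximal' hsup le_sup_left]
  exact mem_sup_right (mem_zpowers m)

/-- Elements of odd order of `M` centralise `P`. -/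
theorem commute_of_odd [Finite G] {o b : G} (ho : o ∈ S.M) (hodd : Odd (orderOf o))
    (hb : b ∈ (S.P : Subgroup G)) : Commute b o := by
  haveI : Fact (Nat.Prime 2) := ⟨Nat.prime_two⟩
  exact mem_centralizer_iff.1
    (NilpotentMaximal.commute_of_coprime S.nil S.P.2 S.le_M ho (Nat.coprime_two_right.2 hodd)) b hb

/-- An element of `M` is a product of an element of `P` and of an element of odd order. -/
theorem exists_split [Finite G] {m : G} (hm : m ∈ S.M) :
    ∃ u ∈ (S.P : Subgroup G), ∃ o ∈ S.M, o ∈ zpowers m ∧ Odd (orderOf o) ∧ m = o * u := by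
  obtain ⟨k, r, hr, hkr⟩ := Nat.exists_eq_two_pow_mul_odd (orderOf_pos m).ne'
  have hco : IsCoprime ((2 ^ k : ℕ) : ℤ) (r : ℤ) :=
    Nat.isCoprime_iff_coprime.2 ((Nat.coprime_two_left.2 hr).pow_left k)
  obtain ⟨a, b, hab⟩ := hco
  have hu : m ^ r ∈ (S.P : Subgroup G) :=
    S.mem_P (pow_mem hm r) (k := k) (by rw [← pow_mul, mul_comm, ← hkr, pow_orderOf_eq_one])
  refine ⟨(m ^ r) ^ b, zpow_mem hu b, (m ^ (2 ^ k)) ^ a, zpow_mem (pow_mem hm _) a,
    zpow_mem (pow_mem (mem_zpowers m) _) a, ?_, ?_⟩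
  · refine Odd.of_dvd_nat hr (orderOf_dvd_of_pow_eq_one ?_)
    rw [← zpow_natCast, ← zpow_mul, mul_comm, zpow_mul, zpow_natCast, ← pow_mul, ← hkr,
      pow_orderOf_eq_one, one_zpow]
  · rw [← zpow_natCast m (2 ^ k), ← zpow_natCast m r, ← zpow_mul, ← zpow_mul, ← zpow_add,
      mul_comm _ a, mul_comm _ b, hab, zpow_one]

/-- Elements of `M` act on `P` as inner automorphisms. -/
theorem exists_inner [Finite G] {m : G} (hm : m ∈ S.M) :
    ∃ u ∈ (S.P : Subgroup G), ∀ b ∈ (S.P : Subgroup G), m * b * m⁻¹ = u * b * u⁻¹ := by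
  obtain ⟨u, hu, o, ho, -, hodd, rfl⟩ := S.exists_split hm
  refine ⟨u, hu, fun b hb => ?_⟩
  have h := (S.commute_of_odd ho hodd (mul_mem (mul_mem hu hb) (inv_mem hu))).eq
  calc o * u * b * (o * u)⁻¹ = o * (u * b * u⁻¹) * o⁻¹ := by group
    _ = u * b * u⁻¹ := by rw [← h, mul_inv_cancel_right]

theorem M_comm_Z [Finite G] {m z : G} (hm : m ∈ S.M) (hz : z ∈ S.Z) : m * z * m⁻¹ = z := by
  obtain ⟨u, hu, h⟩ := S.exists_inner hm
  rw [h z (S.Z_le hz), (comm_Z hz hu).eq, mul_inv_cancel_right]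

theorem Z_ne_bot [Finite G] : S.Z ≠ ⊥ := by
  haveI : Fact (Nat.Prime 2) := ⟨Nat.prime_two⟩
  haveI : Nontrivial (S.P : Subgroup G) := (Subgroup.nontrivial_iff_ne_bot _).2 S.ne_bot
  haveI := S.P.2.center_nontrivial
  obtain ⟨⟨z, hz⟩, hz1⟩ := exists_ne (1 : center (S.P : Subgroup G))
  intro h
  have hmem : (z : G) ∈ S.Z := mem_Z z.2 fun a ha =>
    congrArg Subtype.val (mem_center_iff.1 hz ⟨a, ha⟩)
  rw [h, mem_bot] at hmem
  exact hz1 (Subtype.ext (Subtype.ext hmem))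

variable {S} in
theorem inv_P_eq [Finite G] {σ : MulAut G} (hσ : σ ∈ S.Γ) :
    (S.P : Subgroup G).map σ.toMonoidHom = S.P :=
  eq_of_le_of_card_ge (map_le_iff_le_comap.2 fun x hx => S.inv_P σ hσ x hx)
    (card_map_of_injective σ.injective).ge

theorem inv_Z [Finite G] {σ : MulAut G} (hσ : σ ∈ S.Γ) {z : G} (hz : z ∈ S.Z) : σ z ∈ S.Z := by
  refine mem_Z (S.inv_P σ hσ z (S.Z_le hz)) fun a ha => ?_
  rw [← inv_P_eq hσ] at ha
  obtain ⟨a', ha', rfl⟩ := ha
  exact (comm_Z hz ha').map σ.toMonoidHom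

theorem normalizer_Z_le [Finite G] : normalizer (S.Z : Set G) ≤ S.M :=
  S.loc S.Z S.Z_le S.Z_ne_bot (S.le_normalizer le_rfl S.Z_le) fun _ hσ _ hz => S.inv_Z hσ hz

theorem normalizer_P_le [Finite G] : normalizer ((S.P : Subgroup G) : Set G) ≤ S.M :=
  S.loc _ le_rfl S.ne_bot Subgroup.le_normalizer fun σ hσ x hx => S.inv_P σ hσ x hx

/-- A subgroup between `Z` and `P` with normalizer outside `M`. -/
def Bad (Q : Subgroup G) : Prop :=
  S.Z ≤ Q ∧ Q ≤ (S.P : Subgroup G) ∧ ¬ normalizer (Q : Set G) ≤ S.M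

/-- An element normalising a finite subgroup. -/
theorem mem_normalizer_of_conj [Finite G] {X : Subgroup G} {g : G}
    (h : ∀ x ∈ X, g * x * g⁻¹ ∈ X) : g ∈ normalizer (X : Set G) :=
  mem_normalizer_iff_map_conj_eq.2 (eq_of_le_of_card_ge (map_le_iff_le_comap.2 h)
    (card_map_of_injective (MulAut.conj g).injective).ge)

/-- If all normalizers of subgroups between `Z` and `P` lie in `M`, then `G` is `2`-nilpotent. -/
theorem npc_of_no_bad [Finite G] (h : ∀ Q, ¬ S.Bad Q) : Cfsg.HasNormalPComplement 2 G := by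
  classical
  haveI : Fact (Nat.Prime 2) := ⟨Nat.prime_two⟩
  have hloc : ∀ Q : Subgroup G, S.Z ≤ Q → Q ≤ (S.P : Subgroup G) →
      normalizer (Q : Set G) ≤ S.M := fun Q h1 h2 => by_contra fun h3 => h Q ⟨h1, h2, h3⟩
  refine Fusion.Transfer.npc_of_controls_self S.P fun a ha g hga => ?_
  have hch := Fusion.Alperin.chain_of_conj S.P {a} g⁻¹ (Set.singleton_subset_iff.mpr ha)
    (by rw [Set.image_singleton, inv_inv]; exact Set.singleton_subset_iff.mpr hga)
  suffices key : ∀ (A : Set G) (w : G), Fusion.Alperin.Chain S.P A w → ∃ u ∈ (S.P : Subgroup G),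
      ∀ b ∈ A, u⁻¹ * b * u = w⁻¹ * b * w by
    obtain ⟨u, hu, hb⟩ := key _ _ hch
    refine ⟨u⁻¹, inv_mem hu, ?_⟩
    simpa using hb a rfl
  intro A w hw
  induction hw with
  | nil A _ => exact ⟨1, one_mem _, fun _ _ => rfl⟩
  | cons A R x w ht hx hA _ ih =>
    obtain ⟨v, hv, hvb⟩ := ih
    set D : Subgroup G := (S.P : Subgroup G) ⊓ (R : Subgroup G) with hD
    set N := normalizer (D : Set G) with hN
    set C : Subgroup G := centralizer (D : Set G) with hC
    set E := (S.P : Subgroup G) ⊓ C with hE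
    have hCN : C ≤ N := fun c hc => mem_normalizer_of_conj fun d hd => by
      rwa [← mem_centralizer_iff.1 hc d hd, mul_inv_cancel_right]
    -- `E` is a Sylow `2`-subgroup of `C`
    have hmax : ∀ W : Subgroup G, W ≤ C → IsPGroup 2 W → Nat.card W ≤ Nat.card E := by
      intro W hWC hW
      let U : Sylow 2 N := Fusion.Basic.sylowSubgroupOf
        (inf_le_right : (S.P : Subgroup G) ⊓ N ≤ N) (S.P.2.to_le inf_le_left) ht.1
      obtain ⟨V, hV⟩ := (hW.of_equiv (subgroupOfEquivOfLe (hWC.trans hCN)).symm).exists_le_sylow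
      obtain ⟨n, hn⟩ := MulAction.exists_smul_eq N V U
      have hle : W.map (MulAut.conj (n : G)).toMonoidHom ≤ E := by
        rintro _ ⟨z, hz, rfl⟩
        have h1 : n * ⟨z, hCN (hWC hz)⟩ * n⁻¹ ∈ (U : Subgroup N) := by
          rw [← hn, Sylow.coe_subgroup_smul]
          exact mem_map_of_mem _ (hV (show (⟨z, hCN (hWC hz)⟩ : N) ∈ W.subgroupOf N from hz))
        rw [Fusion.Basic.coe_sylowSubgroupOf, mem_subgroupOf] at h1
        refine ⟨(show (n : G) * z * (n : G)⁻¹ ∈ (S.P : Subgroup G) ⊓ N from h1).1,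
          mem_centralizer_iff.2 fun d hd => ?_⟩
        obtain ⟨d', hd', rfl⟩ : ∃ d' ∈ D, (n : G) * d' * (n : G)⁻¹ = d :=
          ⟨(n : G)⁻¹ * d * n, by
            simpa using (mem_normalizer_iff.1 (inv_mem n.2) d).1 hd, by group⟩
        show (n : G) * d' * (n : G)⁻¹ * ((n : G) * z * (n : G)⁻¹) =
          (n : G) * z * (n : G)⁻¹ * ((n : G) * d' * (n : G)⁻¹)
        rw [conj_mul, conj_mul, mem_centralizer_iff.1 (hWC hz) d' hd']
      exact (card_map_of_injective (MulAut.conj (n : G)).injective).ge.trans (card_le_of_le hle)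
    -- Frattini argument
    have hmemC : ∀ e ∈ E, x * e * x⁻¹ ∈ C := fun e he => mem_centralizer_iff.2 fun d hd => by
      obtain ⟨d', hd', rfl⟩ : ∃ d' ∈ D, x * d' * x⁻¹ = d :=
        ⟨x⁻¹ * d * x, by simpa using (mem_normalizer_iff.1 (inv_mem hx) d).1 hd, by group⟩
      rw [conj_mul, conj_mul, mem_centralizer_iff.1 he.2 d' hd']
    have hEp : IsPGroup 2 E := S.P.2.to_le inf_le_left
    obtain ⟨c, hcC, hc⟩ : ∃ c ∈ C, ∀ e ∈ E, c * (x * e * x⁻¹) * c⁻¹ ∈ E := by
      set F := E.map (MulAut.conj x).toMonoidHom with hF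
      have hFC : F ≤ C := map_le_iff_le_comap.2 fun e he => hmemC e he
      obtain ⟨V₁, hV₁⟩ := (hEp.of_equiv
        (subgroupOfEquivOfLe (inf_le_right : E ≤ C)).symm).exists_le_sylow
      obtain ⟨V₂, hV₂⟩ := ((hEp.map _).of_equiv (subgroupOfEquivOfLe hFC).symm).exists_le_sylow
      obtain ⟨c, hc⟩ := MulAction.exists_smul_eq C V₂ V₁
      have hVE : (V₁ : Subgroup C).map C.subtype = E := by
        refine (eq_of_le_of_card_ge ?_ (hmax _ (map_subtype_le _) (V₁.2.map _))).symm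
        exact fun e he => ⟨⟨e, he.2⟩, hV₁ he, rfl⟩
      refine ⟨c, c.2, fun e he => hVE ▸ ⟨c * ⟨x * e * x⁻¹, hmemC e he⟩ * c⁻¹, ?_, rfl⟩⟩
      rw [← hc, Sylow.coe_subgroup_smul]
      exact mem_map_of_mem _ (hV₂ (show (⟨x * e * x⁻¹, hmemC e he⟩ : C) ∈ F.subgroupOf C from
        ⟨e, he, rfl⟩))
    have hDP : D ≤ (S.P : Subgroup G) := inf_le_left
    have hZE : S.Z ≤ D ⊔ E := fun z hz => mem_sup_right
      ⟨S.Z_le hz, mem_centralizer_iff.2 fun d hd => (comm_Z hz (hDP hd)).eq⟩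
    have hnM : c * x ∈ S.M := by
      refine hloc _ hZE (sup_le hDP inf_le_left) (mem_normalizer_of_conj fun y hy => ?_)
      have hle : (D ⊔ E).map (MulAut.conj (c * x)).toMonoidHom ≤ D ⊔ E := by
        rw [Subgroup.map_sup]
        refine sup_le ?_ ?_
        · rintro _ ⟨d, hd, rfl⟩
          exact mem_sup_left ((mem_normalizer_iff.1 (mul_mem (hCN hcC) hx) d).1 hd)
        · rintro _ ⟨e, he, rfl⟩
          refine mem_sup_right ?_
          show c * x * e * (c * x)⁻¹ ∈ E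
          rw [show c * x * e * (c * x)⁻¹ = c * (x * e * x⁻¹) * c⁻¹ by group]
          exact hc e he
      exact hle ⟨y, hy, rfl⟩
    obtain ⟨u, hu, hu'⟩ := S.exists_inner (inv_mem hnM)
    refine ⟨u⁻¹ * v, mul_mem (inv_mem hu) hv, fun b hb => ?_⟩
    have hxb : x⁻¹ * b * x = u * b * u⁻¹ := by
      rw [← hu' b (hDP (hA hb)), inv_inv]
      have hbC : x * (x⁻¹ * b * x) * x⁻¹ ∈ D := by
        rw [show x * (x⁻¹ * b * x) * x⁻¹ = b by group]; exact hA hb
      have h1 : c⁻¹ * b * c = b := by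
        rw [mul_assoc, mem_centralizer_iff.1 hcC b (hA hb), inv_mul_cancel_left]
      calc x⁻¹ * b * x = x⁻¹ * (c⁻¹ * b * c) * x := by rw [h1]
        _ = (c * x)⁻¹ * b * (c * x) := by group
    calc (u⁻¹ * v)⁻¹ * b * (u⁻¹ * v) = v⁻¹ * (u * b * u⁻¹) * v := by group
      _ = v⁻¹ * (x⁻¹ * b * x) * v := by rw [hxb]
      _ = w⁻¹ * (x⁻¹ * b * x) * w := hvb _ ⟨b, hb, rfl⟩
      _ = (x * w)⁻¹ * b * (x * w) := by group

end Setting

end CfsgLib.Frobenius.ClassTwo
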