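import Cfsg.Agent.Lib.Frobenius.ClassTwo.Basic
import Mathlib.GroupTheory.FixedPointFree
import Mathlib.GroupTheory.Transfer

/-!
Local subgroups at maximal bad subgroups: the index is two and some element of odd order is
inverted.
-/

set_option autoImplicit false
set_option linter.style.haveILetI false

namespace CfsgLib.Frobenius.ClassTwo

open Subgroup
open scoped Pointwise

universe u

variable {G : Type u} [Group G] (S : Setting G)

namespace Setting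

/-- `Q` has index at most two in `P`. -/
def Two (Q : Subgroup G) : Prop :=
  ∀ a ∈ (S.P : Subgroup G), ∀ b ∈ (S.P : Subgroup G), a ∉ Q → b ∉ Q → a * b ∈ Q

/-- `Q` is maximal among the bad subgroups. -/
def MaxBad (Q : Subgroup G) : Prop := S.Bad Q ∧ ∀ Q₁, Q ≤ Q₁ → S.Bad Q₁ → Q₁ = Q

/-- The conjugates, under the normalizer of `Q`, of the involutions of the centre. -/
def invConj (Q : Subgroup G) : Set G :=
  {w | ∃ h ∈ normalizer (Q : Set G), ∃ z ∈ S.Z, z * z = 1 ∧ w = h * z * h⁻¹}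

/-- The kernel of the action on `invConj`. -/
def C1 (Q : Subgroup G) : Subgroup G := centralizer (S.invConj Q) ⊓ normalizer (Q : Set G)

/-- The part of the normalizer which is factored out. -/
def B (Q : Subgroup G) : Subgroup G := Q ⊔ S.C1 Q

variable [Finite G]

theorem eq_of_two {Q : Subgroup G} (hQ : S.Bad Q) (h2 : S.Two Q) : S.MaxBad Q := by
  refine ⟨hQ, fun Q₁ hle hQ₁ => le_antisymm (fun a ha => ?_) hle⟩
  by_contra haQ
  refine hQ₁.2.2 ?_
  have hP : Q₁ = (S.P : Subgroup G) := by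
    refine le_antisymm hQ₁.2.1 fun b hb => ?_
    by_cases hbQ : b ∈ Q
    · exact hle hbQ
    · have h := h2 a (hQ₁.2.1 ha) b hb haQ hbQ
      have := mul_mem (inv_mem ha) (hle h)
      rwa [inv_mul_cancel_left] at this
  rw [hP]
  exact S.normalizer_P_le

variable {S}

theorem Bad.mem_M_of_conj {Q : Subgroup G} (hQ : S.Bad Q) (hmax : ∀ Q₁, Q ≤ Q₁ → S.Bad Q₁ → Q₁ = Q)
    {Q₁ : Subgroup G} (hle : Q ≤ Q₁) (hQ₁P : Q₁ ≤ (S.P : Subgroup G)) (hne : Q₁ ≠ Q) {h : G}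
    (hh : h ∈ normalizer (Q₁ : Set G)) : h ∈ S.M := by
  by_contra hM
  exact hne (hmax Q₁ hle ⟨hQ.1.trans hle, hQ₁P, fun hc => hM (hc hh)⟩)

theorem C1_le_M {Q : Subgroup G} : S.C1 Q ≤ S.M := by
  haveI : Fact (Nat.Prime 2) := ⟨Nat.prime_two⟩
  intro c hc
  let Z1 : Subgroup G :=
    { carrier := {z | z ∈ S.Z ∧ z * z = 1}
      one_mem' := ⟨one_mem _, one_mul 1⟩
      mul_mem' := fun {a b} ha hb => ⟨mul_mem ha.1 hb.1, by
        have hc : Commute a b := comm_Z hb.1 (S.Z_le ha.1)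
        calc a * b * (a * b) = a * (b * a) * b := by group
          _ = a * (a * b) * b := by rw [hc.eq]
          _ = (a * a) * (b * b) := by group
          _ = 1 := by rw [ha.2, hb.2, one_mul]⟩
      inv_mem' := fun {a} ha => ⟨inv_mem ha.1, by rw [← mul_inv_rev, ha.2, inv_one]⟩ }
  have hZ1 : Z1 ≠ ⊥ := by
    intro h
    have hdvd : 2 ∣ Nat.card S.Z := by
      obtain ⟨k, hk⟩ := (S.P.2.to_le S.Z_le).exists_card_eq
      rw [hk]
      refine dvd_pow_self 2 ?_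
      rintro rfl
      exact S.Z_ne_bot (Subgroup.eq_bot_of_card_eq _ (by rw [hk, pow_zero]))
    obtain ⟨z, hz⟩ := exists_prime_orderOf_dvd_card' (G := S.Z) 2 hdvd
    have hmem : (z : G) ∈ Z1 := ⟨z.2, by
      rw [← Subgroup.coe_mul, ← pow_two, ← hz, pow_orderOf_eq_one, Subgroup.coe_one]⟩
    rw [h, mem_bot] at hmem
    rw [show z = 1 from Subtype.ext hmem, orderOf_one] at hz
    norm_num at hz
  refine S.loc Z1 (fun z hz => S.Z_le hz.1) hZ1 (fun a ha => ?_) (fun σ hσ z hz =>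
    ⟨S.inv_Z hσ hz.1, by rw [← map_mul, hz.2, map_one]⟩) ?_
  · exact mem_normalizer_of_conj fun z hz => by
      rw [(comm_Z hz.1 ha).eq, mul_inv_cancel_right]
      exact hz
  · refine mem_normalizer_of_conj fun z hz => ?_
    rw [← mem_centralizer_iff.1 hc.1 z ⟨1, one_mem _, z, hz.1, hz.2, by group⟩,
      mul_inv_cancel_right]
    exact hz

theorem C1_conj {Q : Subgroup G} {h c : G} (hh : h ∈ normalizer (Q : Set G)) (hc : c ∈ S.C1 Q) :
    h * c * h⁻¹ ∈ S.C1 Q := by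
  refine ⟨mem_centralizer_iff.2 ?_, (normalizer (Q : Set G)).mul_mem ((normalizer (Q : Set G)).mul_mem hh hc.2) (inv_mem hh)⟩
  rintro _ ⟨g, hg, z, hz, hz2, rfl⟩
  have hw : h⁻¹ * (g * z * g⁻¹) * h ∈ S.invConj Q :=
    ⟨h⁻¹ * g, mul_mem (inv_mem hh) hg, z, hz, hz2, by group⟩
  have h1 := mem_centralizer_iff.1 hc.1 _ hw
  calc g * z * g⁻¹ * (h * c * h⁻¹) = h * (h⁻¹ * (g * z * g⁻¹) * h * c) * h⁻¹ := by group
    _ = h * (c * (h⁻¹ * (g * z * g⁻¹) * h)) * h⁻¹ := by rw [h1]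
    _ = _ := by group

theorem mem_B {Q : Subgroup G} {w : G} :
    w ∈ S.B Q ↔ ∃ c ∈ S.C1 Q, ∃ q ∈ Q, w = c * q := by
  constructor
  · intro hw
    rw [B, sup_comm, ← SetLike.mem_coe,
      coe_mul_of_left_le_normalizer_right _ _ ((fun _ h => h.2) : S.C1 Q ≤ normalizer (Q : Set G))] at hw
    obtain ⟨c, hc, q, hq, rfl⟩ := hw
    exact ⟨c, hc, q, hq, rfl⟩
  · rintro ⟨c, hc, q, hq, rfl⟩
    exact mul_mem (mem_sup_right hc) (mem_sup_left hq)

theorem Bad.B_le_M {Q : Subgroup G} (hQ : S.Bad Q) : S.B Q ≤ S.M :=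
  sup_le (hQ.2.1.trans S.le_M) C1_le_M

theorem B_le_normalizer {Q : Subgroup G} : S.B Q ≤ normalizer (Q : Set G) :=
  sup_le Subgroup.le_normalizer inf_le_right

theorem B_conj {Q : Subgroup G} {h w : G} (hh : h ∈ normalizer (Q : Set G)) (hw : w ∈ S.B Q) :
    h * w * h⁻¹ ∈ S.B Q := by
  obtain ⟨c, hc, q, hq, rfl⟩ := mem_B.1 hw
  exact mem_B.2 ⟨_, C1_conj hh hc, _, (mem_normalizer_iff.1 hh q).1 hq, by group⟩

theorem MaxBad.P_inf_B {Q : Subgroup G} (hQ : S.MaxBad Q) {b : G} (hb : b ∈ (S.P : Subgroup G))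
    (hbB : b ∈ S.B Q) : b ∈ Q := by
  set Q₁ := Q ⊔ ((S.P : Subgroup G) ⊓ S.C1 Q) with hQ₁
  have hP : Q₁ ≤ (S.P : Subgroup G) := sup_le hQ.1.2.1 inf_le_left
  have hN : normalizer (Q : Set G) ≤ normalizer (Q₁ : Set G) := by
    intro h hh
    refine mem_normalizer_of_conj fun y hy => ?_
    have hle : Q₁.map (MulAut.conj h).toMonoidHom ≤ Q₁ := by
      rw [hQ₁, Subgroup.map_sup]
      refine sup_le ?_ ?_
      · rintro _ ⟨q, hq, rfl⟩
        exact mem_sup_left ((mem_normalizer_iff.1 hh q).1 hq)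
      · rintro _ ⟨c, ⟨hcP, hc⟩, rfl⟩
        haveI : Fact (Nat.Prime 2) := ⟨Nat.prime_two⟩
        obtain ⟨k, hk⟩ := S.P.2 ⟨c, hcP⟩
        refine mem_sup_right ⟨S.mem_P (C1_le_M (C1_conj hh hc)) (k := k) ?_, C1_conj hh hc⟩
        show (MulAut.conj h c) ^ 2 ^ k = 1
        rw [← map_pow, show c ^ 2 ^ k = 1 from congrArg Subtype.val hk, map_one]
    exact hle ⟨y, hy, rfl⟩
  have he : Q₁ = Q := hQ.2 _ le_sup_left
    ⟨hQ.1.1.trans le_sup_left, hP, fun hc => hQ.1.2.2 (hN.trans hc)⟩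
  obtain ⟨c, hc, q, hq, rfl⟩ := mem_B.1 hbB
  have hcP : c ∈ (S.P : Subgroup G) := by
    have := mul_mem hb (inv_mem (hQ.1.2.1 hq))
    rwa [mul_inv_cancel_right] at this
  refine mul_mem ?_ hq
  rw [← he]
  exact mem_sup_right ⟨hcP, hc⟩

/-- Squares of `P` lie in a maximal bad subgroup. -/
theorem MaxBad.sq_mem {Q : Subgroup G} (hQ : S.MaxBad Q) {s : G} (hs : s ∈ (S.P : Subgroup G)) :
    s * s ∈ Q := by
  have hsN : s ∈ normalizer (Q : Set G) := S.le_normalizer hQ.1.1 hQ.1.2.1 hs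
  refine hQ.P_inf_B (mul_mem hs hs) (mem_sup_right ⟨mem_centralizer_iff.2 ?_, mul_mem hsN hsN⟩)
  rintro _ ⟨h, hh, z, hz, hz2, rfl⟩
  set u := h * z * h⁻¹ with hu
  have huQ : u ∈ Q := (mem_normalizer_iff.1 hh z).1 (hQ.1.1 hz)
  have huP := hQ.1.2.1 huQ
  have hu2 : u * u = 1 := by
    rw [hu, conj_mul, hz2, mul_one, mul_inv_cancel]
  set c := s * u * s⁻¹ * u⁻¹ with hc
  have hcZ : c ∈ S.Z := commutator_mem hs huP
  have hsu : s * u * s⁻¹ = c * u := by rw [hc]; group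
  have hcu : Commute u c := comm_Z hcZ huP
  have hc2 : c * c = 1 := by
    have h1 : c * u * (c * u) = 1 := by
      rw [← hsu, conj_mul, hu2, mul_one, mul_inv_cancel]
    calc c * c = c * c * (u * u) := by rw [hu2, mul_one]
      _ = c * (c * u) * u := by group
      _ = c * (u * c) * u := by rw [hcu.eq]
      _ = 1 := by rw [← h1]; group
  have h2 : s * s * u * (s * s)⁻¹ = u := by
    calc s * s * u * (s * s)⁻¹ = s * (s * u * s⁻¹) * s⁻¹ := by group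
      _ = s * (c * u) * s⁻¹ := by rw [hsu]
      _ = s * c * s⁻¹ * (s * u * s⁻¹) := by group
      _ = c * (c * u) := by rw [hsu, (comm_Z hcZ hs).eq, mul_inv_cancel_right]
      _ = u := by rw [← mul_assoc, hc2, one_mul]
  exact (mul_inv_eq_iff_eq_mul.1 h2).symm

/-- The structure of the local subgroup at a maximal bad subgroup. -/
theorem MaxBad.inverter {Q : Subgroup G} (hQ : S.MaxBad Q) :
    S.Two Q ∧ ∀ s ∈ (S.P : Subgroup G), s ∉ Q →
      ∃ x ∈ normalizer (Q : Set G), Odd (orderOf x) ∧ x ∉ S.M ∧ s * x * s⁻¹ * x ∈ S.B Q := by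
  classical
  haveI : Fact (Nat.Prime 2) := ⟨Nat.prime_two⟩
  set N := normalizer (Q : Set G) with hN
  have hPN : (S.P : Subgroup G) ≤ N := S.le_normalizer hQ.1.1 hQ.1.2.1
  set BN := (S.B Q).subgroupOf N with hBN
  haveI : BN.Normal := ⟨fun w hw h => by
    rw [hBN, mem_subgroupOf] at hw ⊢
    exact B_conj h.2 hw⟩
  set π := QuotientGroup.mk' BN with hπ
  have hπ1 : ∀ w : N, π w = 1 ↔ (w : G) ∈ S.B Q := fun w => QuotientGroup.eq_one_iff w
  have hπsurj : Function.Surjective π := QuotientGroup.mk'_surjective BN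
  set T : Sylow 2 (N ⧸ BN) := (S.P.subtype hPN).mapSurjective hπsurj with hT
  have hTmem : ∀ t, t ∈ (T : Subgroup (N ⧸ BN)) ↔
      ∃ a : N, (a : G) ∈ (S.P : Subgroup G) ∧ π a = t := fun t => Iff.rfl
  -- odd elements of `M` in the normalizer lie in `B`
  have hodd : ∀ o : N, (o : G) ∈ S.M → Odd (orderOf (o : G)) → π o = 1 := by
    intro o ho hodd
    refine (hπ1 o).2 (mem_sup_right ⟨mem_centralizer_iff.2 ?_, o.2⟩)
    rintro _ ⟨h, hh, z, hz, -, rfl⟩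
    exact S.commute_of_odd ho hodd (hQ.1.2.1 ((mem_normalizer_iff.1 hh z).1 (hQ.1.1 hz)))
  have hMT : ∀ m : N, (m : G) ∈ S.M → π m ∈ (T : Subgroup (N ⧸ BN)) := by
    intro m hm
    obtain ⟨u, hu, o, ho, hom, hoo, he⟩ := S.exists_split hm
    have hoN : o ∈ N := zpowers_le.2 m.2 hom
    have : m = ⟨o, hoN⟩ * ⟨u, hPN hu⟩ := Subtype.ext he
    rw [this, map_mul, hodd ⟨o, hoN⟩ ho hoo, one_mul]
    exact (hTmem _).2 ⟨⟨u, hPN hu⟩, hu, rfl⟩
  have hcomm : ∀ a ∈ (S.P : Subgroup G), ∀ b ∈ (S.P : Subgroup G),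
      ∀ (ha : a ∈ N) (hb : b ∈ N), Commute (π ⟨a, ha⟩) (π ⟨b, hb⟩) := by
    intro a ha b hb ha' hb'
    have h1 : π (⟨a, ha'⟩ * ⟨b, hb'⟩ * (⟨a, ha'⟩ : N)⁻¹ * (⟨b, hb'⟩ : N)⁻¹) = 1 :=
      (hπ1 _).2 (mem_sup_left (hQ.1.1 (commutator_mem ha hb)))
    rw [map_mul, map_mul, map_mul, map_inv, map_inv, mul_inv_eq_one, mul_inv_eq_iff_eq_mul] at h1
    exact h1
  have hnorm : normalizer (T : Set (N ⧸ BN)) ≤ centralizer (T : Set (N ⧸ BN)) := by
    intro t ht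
    obtain ⟨h, rfl⟩ := hπsurj t
    have hhM : (h : G) ∈ S.M := by
      refine S.normalizer_P_le (mem_normalizer_of_conj fun b hb => ?_)
      obtain ⟨a, ha, hab⟩ := (hTmem _).1
        ((mem_normalizer_iff.1 ht (π ⟨b, hPN hb⟩)).1 ((hTmem _).2 ⟨⟨b, hPN hb⟩, hb, rfl⟩))
      have hM : (h : G) * b * (h : G)⁻¹ ∈ S.M := by
        have h1 : π (a⁻¹ * (h * ⟨b, hPN hb⟩ * h⁻¹)) = 1 := by
          rw [map_mul, map_inv, hab, map_mul, map_mul, map_inv, inv_mul_cancel]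
        have h2 : (a : G)⁻¹ * ((h : G) * b * (h : G)⁻¹) ∈ S.M := hQ.1.B_le_M ((hπ1 _).1 h1)
        have := mul_mem (S.le_M ha) h2
        rwa [mul_inv_cancel_left] at this
      obtain ⟨k, hk⟩ := S.P.2 ⟨b, hb⟩
      refine S.mem_P hM (k := k) ?_
      show (MulAut.conj (h : G) b) ^ 2 ^ k = 1
      rw [← map_pow, show b ^ 2 ^ k = 1 from congrArg Subtype.val hk, map_one]
    obtain ⟨u, hu, hu'⟩ := (hTmem _).1 (hMT h hhM)
    rw [← hu', mem_centralizer_iff]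
    intro v hv
    obtain ⟨b, hb, rfl⟩ := (hTmem _).1 hv
    exact hcomm _ hb _ hu b.2 u.2
  set K := (MonoidHom.transferSylow T hnorm).ker with hK
  haveI : K.Normal := MonoidHom.normal_ker _
  have hKT := MonoidHom.ker_transferSylow_isComplement' T hnorm
  have hKodd : Odd (Nat.card K) :=
    Nat.not_even_iff_odd.1 fun h => MonoidHom.not_dvd_card_ker_transferSylow T hnorm h.two_dvd
  have hKT1 : ∀ k ∈ K, k ∈ (T : Subgroup (N ⧸ BN)) → k = 1 := fun k hk hk' => by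
    have := hKT.disjoint.le_bot ⟨hk, hk'⟩
    exact mem_bot.1 this
  have hKne : K ≠ ⊥ := by
    intro hb
    refine hQ.1.2.2 fun g hg => ?_
    have htop : (T : Subgroup (N ⧸ BN)) = ⊤ := by
      have := hKT.sup_eq_top
      rwa [← hK, hb, bot_sup_eq] at this
    obtain ⟨a, ha, hag⟩ := (hTmem (π ⟨g, hg⟩)).1 (htop ▸ mem_top _)
    have h1 : (a : G)⁻¹ * g ∈ S.M :=
      hQ.1.B_le_M ((hπ1 (a⁻¹ * ⟨g, hg⟩)).1 (by rw [map_mul, map_inv, hag, inv_mul_cancel]))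
    have := mul_mem (S.le_M ha) h1
    rwa [mul_inv_cancel_left] at this
  -- involutions of `T` invert `K`
  have hinv : ∀ (e : N), (e : G) ∈ (S.P : Subgroup G) → (e : G) ∉ Q → ∀ k ∈ K,
      π e * k * (π e)⁻¹ = k⁻¹ := by
    intro e heP heQ
    have hfix : ∀ k ∈ K, π e * k * (π e)⁻¹ = k → k = 1 := by
      intro k hk hek
      obtain ⟨h, rfl⟩ := hπsurj k
      set Q₁ := Q ⊔ zpowers (e : G) with hQ₁
      have hQ₁P : Q₁ ≤ (S.P : Subgroup G) := sup_le hQ.1.2.1 (zpowers_le.2 heP)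
      have hbB : π (h * e * h⁻¹ * e⁻¹) = 1 := by
        rw [map_mul, map_mul, map_mul, map_inv, map_inv]
        rw [mul_inv_eq_iff_eq_mul] at hek
        rw [← hek, mul_inv_cancel_right, mul_inv_cancel]
      have hb := (hπ1 _).1 hbB
      have hheM : (h : G) * e * (h : G)⁻¹ ∈ S.M := by
        have := mul_mem (hQ.1.B_le_M hb) (S.le_M heP)
        simpa [mul_assoc] using this
      obtain ⟨j, hj⟩ := S.P.2 ⟨(e : G), heP⟩
      have hheP : (h : G) * e * (h : G)⁻¹ ∈ (S.P : Subgroup G) := by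
        refine S.mem_P hheM (k := j) ?_
        show (MulAut.conj (h : G) (e : G)) ^ 2 ^ j = 1
        rw [← map_pow, show (e : G) ^ 2 ^ j = 1 from congrArg Subtype.val hj, map_one]
      have hbQ : (h : G) * e * (h : G)⁻¹ * (e : G)⁻¹ ∈ Q :=
        hQ.P_inf_B (mul_mem hheP (inv_mem heP)) hb
      have hhQ₁ : (h : G) ∈ normalizer (Q₁ : Set G) := by
        refine mem_normalizer_of_conj fun y hy => ?_
        have hle : Q₁.map (MulAut.conj (h : G)).toMonoidHom ≤ Q₁ := by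
          rw [hQ₁, Subgroup.map_sup]
          refine sup_le ?_ ?_
          · rintro _ ⟨q, hq, rfl⟩
            exact mem_sup_left ((mem_normalizer_iff.1 h.2 q).1 hq)
          · rw [MonoidHom.map_zpowers, zpowers_le]
            have := mul_mem (mem_sup_left hbQ : _ ∈ Q₁)
              (mem_sup_right (mem_zpowers (e : G)) : (e : G) ∈ Q₁)
            rw [inv_mul_cancel_right] at this
            exact this
        exact hle ⟨y, hy, rfl⟩
      have hne : Q₁ ≠ Q := fun he => heQ (he ▸ mem_sup_right (mem_zpowers (e : G)))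
      exact hKT1 _ hk (hMT h (hQ.1.mem_M_of_conj hQ.2 le_sup_left hQ₁P hne hhQ₁))
    let φ : K →* K := ((MulAut.conjNormal (π e) : MulAut K)).toMonoidHom
    have hφ : ∀ k : K, (φ k : N ⧸ BN) = π e * k * (π e)⁻¹ := fun k => rfl
    have hfpf : MonoidHom.FixedPointFree φ := fun k hk =>
      Subtype.ext (hfix k k.2 (by rw [← hφ, hk]))
    have hinvol : Function.Involutive φ := fun k => by
      refine Subtype.ext ?_
      rw [hφ, hφ]
      have he2 : π e * π e = 1 := by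
        rw [← map_mul]
        exact (hπ1 _).2 (mem_sup_left (hQ.sq_mem heP))
      calc π e * (π e * (k : N ⧸ BN) * (π e)⁻¹) * (π e)⁻¹
          = (π e * π e) * k * (π e * π e)⁻¹ := by group
        _ = k := by rw [he2, one_mul, inv_one, mul_one]
    intro k hk
    have := congrArg Subtype.val (congrFun (hfpf.coe_eq_inv_of_involutive hinvol) ⟨k, hk⟩)
    rw [hφ] at this
    exact this
  obtain ⟨⟨k₀, hk₀⟩, hk₀1⟩ : ∃ k : K, k ≠ 1 := by
    haveI : Nontrivial K := (Subgroup.nontrivial_iff_ne_bot K).2 hKne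
    exact exists_ne 1
  have hk₀ne : k₀ ≠ 1 := fun h => hk₀1 (Subtype.ext h)
  have hord : Odd (orderOf k₀) := Odd.of_dvd_nat hKodd (K.orderOf_dvd_natCard hk₀)
  refine ⟨fun a ha b hb haQ hbQ => ?_, fun s hs hsQ => ?_⟩
  · by_contra habQ
    refine hk₀ne ?_
    have h1 := hinv ⟨a, hPN ha⟩ ha haQ
    have h2 := hinv ⟨b, hPN hb⟩ hb hbQ
    have h3 := hinv ⟨a * b, hPN (mul_mem ha hb)⟩ (mul_mem ha hb) habQ k₀ hk₀
    have hab : (⟨a * b, hPN (mul_mem ha hb)⟩ : N) = ⟨a, hPN ha⟩ * ⟨b, hPN hb⟩ := rfl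
    rw [hab, map_mul] at h3
    have h4 : k₀ = k₀⁻¹ := by
      calc k₀ = π ⟨a, hPN ha⟩ * k₀⁻¹ * (π ⟨a, hPN ha⟩)⁻¹ := by rw [h1 _ (inv_mem hk₀), inv_inv]
        _ = π ⟨a, hPN ha⟩ * (π ⟨b, hPN hb⟩ * k₀ * (π ⟨b, hPN hb⟩)⁻¹) * (π ⟨a, hPN ha⟩)⁻¹ := by
            rw [h2 k₀ hk₀]
        _ = π ⟨a, hPN ha⟩ * π ⟨b, hPN hb⟩ * k₀ * (π ⟨a, hPN ha⟩ * π ⟨b, hPN hb⟩)⁻¹ := by group
        _ = k₀⁻¹ := h3
    have h5 : k₀ ^ 2 = 1 := by
      rw [pow_two]
      nth_rewrite 2 [h4]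
      exact mul_inv_cancel k₀
    have hd := Nat.eq_one_of_dvd_coprimes (Nat.coprime_two_right.2 hord)
      dvd_rfl (orderOf_dvd_of_pow_eq_one h5)
    exact orderOf_eq_one_iff.1 hd
  · obtain ⟨h, rfl⟩ := hπsurj k₀
    obtain ⟨i, r, hr, hir⟩ := Nat.exists_eq_two_pow_mul_odd (orderOf_pos (h : G)).ne'
    have hxodd : Odd (orderOf ((h : G) ^ 2 ^ i)) :=
      Odd.of_dvd_nat hr (orderOf_dvd_of_pow_eq_one (by rw [← pow_mul, ← hir, pow_orderOf_eq_one]))
    have hx1 : π (h ^ 2 ^ i) ≠ 1 := by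
      intro hx
      rw [map_pow] at hx
      exact hk₀ne (orderOf_eq_one_iff.1 (Nat.eq_one_of_dvd_coprimes
        ((Nat.coprime_two_right.2 hord).pow_right i) dvd_rfl (orderOf_dvd_of_pow_eq_one hx)))
    refine ⟨((h ^ 2 ^ i : N) : G), (h ^ 2 ^ i : N).2, by rwa [Subgroup.coe_pow],
      fun hM => hx1 (hodd _ hM (by rwa [Subgroup.coe_pow])), ?_⟩
    have h1 := hinv ⟨s, hPN hs⟩ hs hsQ (π (h ^ 2 ^ i)) (by rw [map_pow]; exact pow_mem hk₀ _)
    exact (hπ1 (⟨s, hPN hs⟩ * h ^ 2 ^ i * (⟨s, hPN hs⟩ : N)⁻¹ * h ^ 2 ^ i)).1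
      (by rw [map_mul, map_mul, map_mul, map_inv, h1, inv_mul_cancel])

end Setting

end CfsgLib.Frobenius.ClassTwo
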