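import Cfsg.Agent.Lib.Frobenius.ClassTwo.Partner
import Cfsg.Agent.Lib.LocalEvenB.InvariantNilpotent
import Cfsg.Agent.Lib.Solvable.FPFNilpotent
import Cfsg.Agent.Lib.OddOrder.Final.Main

/-!
A nilpotent maximal invariant subgroup, with Sylow `2`-subgroups of class at most two, under a
coprime action forces solvability.
-/

set_option autoImplicit false
set_option linter.style.haveILetI false

namespace CfsgLib.Frobenius.ClassTwo

open Subgroup
open scoped Pointwise commutatorElement
open CfsgLib.LocalEvenB.InvariantNilpotent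

universe u v

variable {A : Type v} [Group A]

/-- Commutators of `2`-elements of `M` commute with `2`-elements of `M`. -/
def ClassLe {G : Type u} [Group G] (M : Subgroup G) : Prop :=
  ∀ a ∈ M, ∀ b ∈ M, ∀ c ∈ M, (∃ k : ℕ, a ^ 2 ^ k = 1) → (∃ k : ℕ, b ^ 2 ^ k = 1) →
    (∃ k : ℕ, c ^ 2 ^ k = 1) → Commute (a * b * a⁻¹ * b⁻¹) c

variable {G : Type u} [Group G] [Finite G]

theorem exists_lift {H : Type u} [Group H] (f : G →* H) {M : Subgroup G} {m : G} (hm : m ∈ M)
    {k : ℕ} (hk : f m ^ 2 ^ k = 1) : ∃ u ∈ M, (∃ j : ℕ, u ^ 2 ^ j = 1) ∧ f u = f m := by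
  obtain ⟨i, r, hr, hir⟩ := Nat.exists_eq_two_pow_mul_odd (orderOf_pos m).ne'
  have hco : IsCoprime ((2 ^ k : ℕ) : ℤ) (r : ℤ) :=
    Nat.isCoprime_iff_coprime.2 ((Nat.coprime_two_left.2 hr).pow_left k)
  obtain ⟨a, b, hab⟩ := hco
  refine ⟨(m ^ r) ^ b, zpow_mem (pow_mem hm r) b, ⟨i, ?_⟩, ?_⟩
  · rw [← zpow_natCast, ← zpow_mul, mul_comm b, zpow_mul, zpow_natCast, ← pow_mul, mul_comm r,
      ← hir, pow_orderOf_eq_one, one_zpow]
  · rw [map_zpow, map_pow, ← zpow_natCast (f m) r, ← zpow_mul,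
      show (r : ℤ) * b = ((2 ^ k : ℕ) : ℤ) * (-a) + 1 by rw [← hab]; ring, zpow_add, zpow_mul,
      zpow_natCast, hk, one_zpow, one_mul, zpow_one]

theorem ClassLe.map {H : Type u} [Group H] (f : G →* H) {M : Subgroup G} (h : ClassLe M) :
    ClassLe (M.map f) := by
  rintro _ ⟨a, ha, rfl⟩ _ ⟨b, hb, rfl⟩ _ ⟨c, hc, rfl⟩ ⟨ka, hka⟩ ⟨kb, hkb⟩ ⟨kc, hkc⟩
  obtain ⟨a', ha', hao, hfa⟩ := exists_lift f ha hka
  obtain ⟨b', hb', hbo, hfb⟩ := exists_lift f hb hkb
  obtain ⟨c', hc', hco, hfc⟩ := exists_lift f hc hkc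
  rw [← hfa, ← hfb, ← hfc, ← map_inv, ← map_inv, ← map_mul, ← map_mul, ← map_mul]
  exact (h a' ha' b' hb' c' hc' hao hbo hco).map f

theorem ClassLe.of_sylow {M : Subgroup G} (hnil : Group.IsNilpotent M)
    (h2 : ∀ S : Sylow 2 ↥M, Group.nilpotencyClass ↥(S : Subgroup ↥M) ≤ 2) : ClassLe M := by
  haveI : Fact (Nat.Prime 2) := ⟨Nat.prime_two⟩
  haveI := hnil
  obtain ⟨S⟩ : Nonempty (Sylow 2 M) := inferInstance
  have hSn : (S : Subgroup M).Normal :=
    S.normal_of_normalizerCondition Group.normalizerCondition_of_isNilpotent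
  have hmem : ∀ m : M, ∀ k : ℕ, (m : G) ^ 2 ^ k = 1 → m ∈ (S : Subgroup M) := by
    intro m k hk
    obtain ⟨i, -, hi⟩ := (Nat.dvd_prime_pow Nat.prime_two).1
      (orderOf_dvd_of_pow_eq_one (Subtype.ext hk : m ^ 2 ^ k = 1))
    obtain ⟨T, hT⟩ := (IsPGroup.of_card (p := 2) (n := i)
      (by rw [Nat.card_zpowers, hi] : Nat.card (zpowers m) = 2 ^ i)).exists_le_sylow
    haveI := S.unique_of_normal hSn
    rw [Subsingleton.elim S T]
    exact hT (mem_zpowers m)
  rintro a ha b hb c hc ⟨ka, hka⟩ ⟨kb, hkb⟩ ⟨kc, hkc⟩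
  set a' : (S : Subgroup M) := ⟨⟨a, ha⟩, hmem ⟨a, ha⟩ ka hka⟩ with ha'
  set b' : (S : Subgroup M) := ⟨⟨b, hb⟩, hmem ⟨b, hb⟩ kb hkb⟩ with hb'
  set c' : (S : Subgroup M) := ⟨⟨c, hc⟩, hmem ⟨c, hc⟩ kc hkc⟩ with hc'
  haveI : Group.IsNilpotent (S : Subgroup M) := S.2.isNilpotent
  have hbot := Subgroup.lowerCentralSeries_eq_bot_iff_nilpotencyClass_le.2 (h2 S)
  rw [Subgroup.lowerCentralSeries_succ, Subgroup.lowerCentralSeries_succ,
    Subgroup.lowerCentralSeries_zero] at hbot
  have h1 : ⁅⁅a', b'⁆, c'⁆ = 1 := by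
    rw [← Subgroup.mem_bot, ← hbot]
    exact commutator_mem_commutator (commutator_mem_commutator (mem_top _) (mem_top _)) (mem_top _)
  rw [commutatorElement_eq_one_iff_commute] at h1
  have h3 := (h1.map (S : Subgroup M).subtype).map M.subtype
  simpa [commutatorElement_def, ha', hb', hc'] using h3

/-- The core-free case: a nilpotent maximal invariant subgroup gives normal `p`-complements. -/
theorem npc_of_core_free {φ : A →* MulAut G} (hAodd : ∀ a, Odd (orderOf (φ a)))
    {M : Subgroup G} (hMi : Inv φ M) (hnil : Group.IsNilpotent M) (hcls : ClassLe M)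
    (hnorm : ∀ X : Subgroup G, X ≤ M → X ≠ ⊥ → M ≤ normalizer (X : Set G) → Inv φ X →
      normalizer (X : Set G) = M)
    (p : ℕ) [Fact p.Prime] (hp : p ∣ Nat.card M) :
    (∃ P : Sylow p G, (P : Subgroup G) ≤ M) ∧ Cfsg.HasNormalPComplement p G := by
  haveI := hnil
  obtain ⟨P₀⟩ : Nonempty (Sylow p M) := inferInstance
  have hP₀n : (P₀ : Subgroup M).Normal :=
    P₀.normal_of_normalizerCondition Group.normalizerCondition_of_isNilpotent
  set U := (P₀ : Subgroup M).map M.subtype with hU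
  have hUM : U ≤ M := map_subtype_le _
  have hUn : M ≤ normalizer (U : Set G) := by
    intro m hm
    refine mem_normalizer_iff_map_conj_eq.2 (eq_of_le_of_card_ge ?_ ?_)
    · rintro _ ⟨_, ⟨u, hu, rfl⟩, rfl⟩
      exact ⟨⟨m, hm⟩ * u * ⟨m, hm⟩⁻¹, hP₀n.conj_mem u hu ⟨m, hm⟩, rfl⟩
    · exact (card_map_of_injective (MulAut.conj m).injective).ge
  have hne : U ≠ ⊥ := by
    rw [hU, Ne, map_eq_bot_iff_of_injective _ M.subtype_injective]
    exact P₀.ne_bot_of_dvd_card hp
  have hUi : Inv φ U := by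
    rintro a _ ⟨u, hu, rfl⟩
    have hm : φ a (u : G) ∈ M := hMi a _ u.2
    obtain ⟨k, hk⟩ := P₀.2 ⟨u, hu⟩
    have hk' : (⟨φ a (u : G), hm⟩ : M) ^ p ^ k = 1 := Subtype.ext (by
      show (φ a (u : G)) ^ p ^ k = 1
      rw [← map_pow, show (u : G) ^ p ^ k = 1 from
        congrArg (fun z : (P₀ : Subgroup M) => ((z : M) : G)) hk, map_one])
    obtain ⟨i, -, hi⟩ := (Nat.dvd_prime_pow (Fact.out : p.Prime)).1 (orderOf_dvd_of_pow_eq_one hk')
    obtain ⟨T, hT⟩ := (IsPGroup.of_card (p := p) (n := i)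
      (by rw [Nat.card_zpowers, hi] : Nat.card (zpowers (⟨φ a (u : G), hm⟩ : M)) = p ^ i)).exists_le_sylow
    haveI := P₀.unique_of_normal hP₀n
    exact ⟨⟨φ a (u : G), hm⟩, by rw [Subsingleton.elim P₀ T]; exact hT (mem_zpowers _), rfl⟩
  have hNU := hnorm U hUM hne hUn hUi
  obtain ⟨P, hP⟩ := (P₀.2.map M.subtype).exists_le_sylow
  have hUP : U = (P : Subgroup G) := by
    by_contra hne'
    have hlt := Fusion.Alperin.exists_gt_of_lt_sylow P (lt_of_le_of_ne hP hne')
    rw [hNU] at hlt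
    have hle : (P₀ : Subgroup M) ≤ ((P : Subgroup G) ⊓ M).subgroupOf M := fun u hu =>
      hlt.le ⟨u, hu, rfl⟩
    have heq := P₀.is_maximal'
      ((P.2.to_le inf_le_left).of_equiv (subgroupOfEquivOfLe inf_le_right).symm) hle
    refine hlt.ne ?_
    show (P₀ : Subgroup M).map M.subtype = _
    rw [← heq, subgroupOf_map_subtype, inf_assoc, inf_idem]
  have hPM : (P : Subgroup G) ≤ M := hUP ▸ hUM
  refine ⟨⟨P, hPM⟩, ?_⟩
  by_cases hp2 : p = 2
  · subst hp2
    let S : Setting G :=
      { P := P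
        M := M
        nil := hnil
        le_M := hPM
        ne_bot := hUP ▸ hne
        cls := fun a ha b hb c hc => hcls a (hPM ha) b (hPM hb) c (hPM hc)
          ⟨_, congrArg Subtype.val (P.2 ⟨a, ha⟩).choose_spec⟩
          ⟨_, congrArg Subtype.val (P.2 ⟨b, hb⟩).choose_spec⟩
          ⟨_, congrArg Subtype.val (P.2 ⟨c, hc⟩).choose_spec⟩
        Γ := Set.range φ
        odd_Γ := by rintro _ ⟨a, rfl⟩; exact hAodd a
        inv_P := by rintro _ ⟨a, rfl⟩ x hx; rw [← hUP] at hx ⊢; exact hUi a x hx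
        loc := fun X hX hX1 hXn hXi => by
          refine (hnorm X (hX.trans hPM) hX1 (fun m hm => ?_) (fun a x hx => hXi _ ⟨a, rfl⟩ x hx)).le
          -- elements of `M` act on `P` as elements of `P`
          have hprim : ∃ o ∈ M, ∃ u ∈ (P : Subgroup G), m = o * u ∧
              ∀ b ∈ (P : Subgroup G), b * o = o * b := by
            obtain ⟨k, r, hr, hkr⟩ := Nat.exists_eq_two_pow_mul_odd (orderOf_pos m).ne'
            have hco : IsCoprime ((2 ^ k : ℕ) : ℤ) (r : ℤ) :=
              Nat.isCoprime_iff_coprime.2 ((Nat.coprime_two_left.2 hr).pow_left k)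
            obtain ⟨a, b, hab⟩ := hco
            have hmr : m ^ r ∈ (P : Subgroup G) := by
              have hk' : (⟨m, hm⟩ ^ r : M) ^ 2 ^ k = 1 := Subtype.ext (by
                show (m ^ r) ^ 2 ^ k = 1
                rw [← pow_mul, mul_comm, ← hkr, pow_orderOf_eq_one])
              obtain ⟨i, -, hi⟩ :=
                (Nat.dvd_prime_pow Nat.prime_two).1 (orderOf_dvd_of_pow_eq_one hk')
              obtain ⟨T, hT⟩ := (IsPGroup.of_card (p := 2) (n := i)
                (by rw [Nat.card_zpowers, hi] :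
                  Nat.card (zpowers ((⟨m, hm⟩ : M) ^ r)) = 2 ^ i)).exists_le_sylow
              haveI := P₀.unique_of_normal hP₀n
              rw [← hUP]
              exact ⟨⟨m, hm⟩ ^ r, by rw [Subsingleton.elim P₀ T]; exact hT (mem_zpowers _), rfl⟩
            refine ⟨(m ^ 2 ^ k) ^ a, zpow_mem (pow_mem hm _) a, (m ^ r) ^ b, zpow_mem hmr b, ?_,
              fun y hy => ?_⟩
            · rw [← zpow_natCast m (2 ^ k), ← zpow_natCast m r, ← zpow_mul, ← zpow_mul, ← zpow_add,
                mul_comm _ a, mul_comm _ b, hab, zpow_one]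
            · refine mem_centralizer_iff.1 (NilpotentMaximal.commute_of_coprime hnil P.2 hPM
                (zpow_mem (pow_mem hm _) a) ?_) y hy
              refine Nat.coprime_two_right.2 (Odd.of_dvd_nat hr (orderOf_dvd_of_pow_eq_one ?_))
              rw [← zpow_natCast, ← zpow_mul, mul_comm, zpow_mul, zpow_natCast, ← pow_mul, ← hkr,
                pow_orderOf_eq_one, one_zpow]
          obtain ⟨o, -, u, hu, rfl, hcomm⟩ := hprim
          refine mul_mem (mem_normalizer_iff.2 fun b => ?_) (hXn hu)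
          constructor
          · intro hb; rwa [← hcomm b (hX hb), mul_inv_cancel_right]
          · intro hb
            have h1 := hcomm _ (hX hb)
            rw [inv_mul_cancel_right, ← mul_assoc, ← mul_assoc] at h1
            have h2 : b = o * b * o⁻¹ := by
              have h3 : o * b = o * (o * b * o⁻¹) := h1.trans (by group)
              exact mul_left_cancel h3
            rwa [h2] }
    exact S.npc (by rintro _ ⟨a, rfl⟩ _ ⟨b, rfl⟩; exact ⟨a * b, map_mul φ a b⟩) ⟨1, map_one φ⟩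
  · let Z : CfsgLib.Fusion.GlaubermanThompson.ZFun.{u} p :=
      CfsgLib.Fusion.GlaubermanThompson.zFunFull hp2
    refine CfsgLib.Fusion.GlaubermanThompson.npc_aux Z hp2 _ G rfl P ?_
    show Cfsg.HasNormalPComplement p (normalizer (Z.w (P : Subgroup G) : Set G))
    have hN : normalizer (Z.w (P : Subgroup G) : Set G) = M := by
      refine hnorm _ ((Z.le _).trans hPM) (Z.ne_bot _ P.2 (hUP ▸ hne))
        ((hUP ▸ hUn).trans (Z.normalizer_le _)) fun a x hx => ?_
      have h1 := Z.map_inj (φ a).toMonoidHom (φ a).injective (P : Subgroup G)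
      rw [map_eq_of_inv (hUP ▸ hUi) a] at h1
      rw [h1]
      exact ⟨x, hx, rfl⟩
    rw [hN]
    exact Solvable.FPFNilpotent.npc_of_nilpotent p

/-- The core-free case: solvability. -/
theorem isSolvable_of_core_free [Finite A] (φ : A →* MulAut G) (hAs : Group.IsSolvable A)
    (hcop : (Nat.card A).Coprime (Nat.card G)) (hAodd : ∀ a, Odd (orderOf (φ a)))
    {M : Subgroup G} (hMtop : M ≠ ⊤) (hMi : Inv φ M)
    (hMmax : ∀ H : Subgroup G, M ≤ H → H ≠ ⊤ → Inv φ H → H = M)
    (hnil : Group.IsNilpotent M) (hcls : ClassLe M)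
    (hcore : ∀ N : Subgroup G, N.Normal → Inv φ N → N ≤ M → N = ⊥) : Group.IsSolvable G := by
  classical
  have htop : ∀ H : Subgroup G, M ≤ H → Inv φ H → ¬ H ≤ M → H = ⊤ := fun H h1 h2 h3 =>
    by_contra fun h => h3 (hMmax H h1 h h2).le
  have hnorm : ∀ X : Subgroup G, X ≤ M → X ≠ ⊥ → M ≤ normalizer (X : Set G) → Inv φ X →
      normalizer (X : Set G) = M := fun X hXM hX1 hXn hXi => by
    refine le_antisymm ?_ hXn
    by_contra hle
    exact hX1 (hcore X (normalizer_eq_top_iff.1 (htop _ hXn (inv_normalizer hXi) hle)) hXi hXM)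
  by_cases hM : M = ⊥
  · subst hM
    obtain ⟨p, hp, hpG⟩ := Nat.exists_prime_and_dvd (n := Nat.card G) fun h => hMtop
      (eq_top_of_card_eq _ (by rw [h, Subgroup.card_bot]))
    haveI := Fact.mk hp
    obtain ⟨P, hP⟩ := exists_inv_sylow φ hcop (Or.inl hAs) p
    have hPtop := htop (P : Subgroup G) bot_le hP
      fun h => P.ne_bot_of_dvd_card hpG (le_bot_iff.1 h)
    haveI : Group.IsNilpotent G := by
      have h2 : IsPGroup p (⊤ : Subgroup G) := hPtop ▸ P.2
      exact (h2.of_equiv Subgroup.topEquiv).isNilpotent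
    infer_instance
  set S := (Nat.card M).primeFactors
  set K := ⨅ p : S, Cfsg.pResidual (p : ℕ) G with hKdef
  have hKn : K.Normal := normal_iInf_normal fun _ => Fusion.Basic.pResidual_normal
  have hnpc : ∀ (p : ℕ) [Fact p.Prime], p ∣ Nat.card M →
      (∃ P : Sylow p G, (P : Subgroup G) ≤ M) ∧ Cfsg.HasNormalPComplement p G :=
    fun p _ h => npc_of_core_free hAodd hMi hnil hcls hnorm p h
  have hcopM : ∀ p ∈ S, Nat.Coprime (Nat.card K) p := fun p hp => by
    have : Fact p.Prime := ⟨Nat.prime_of_mem_primeFactors hp⟩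
    exact (Fusion.Basic.npc_iff_coprime.1 (hnpc p (Nat.dvd_of_mem_primeFactors hp)).2).coprime_dvd_left
      (card_dvd_of_le (iInf_le (fun p : S => Cfsg.pResidual (p : ℕ) G) ⟨p, hp⟩))
  have hcop' : (Nat.card M).Coprime (Nat.card K) := Nat.coprime_of_dvd fun p hp hp1 hp2 =>
    hp.not_dvd_one
      ((hcopM p (Nat.mem_primeFactors.2 ⟨hp, hp1, Nat.card_pos.ne'⟩)) ▸ Nat.dvd_gcd hp2 dvd_rfl)
  have hKi : ∀ r : ℕ, r.Prime → r ∣ K.index → r ∈ S := by
    intro r hr hrd
    by_contra hrS
    have : Fact r.Prime := ⟨hr⟩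
    obtain ⟨R⟩ : Nonempty (Sylow r G) := inferInstance
    have hRK : (R : Subgroup G) ≤ K := le_iInf fun p x hx => by
      have : Fact (p : ℕ).Prime := ⟨Nat.prime_of_mem_primeFactors p.2⟩
      refine Fusion.Basic.mem_pResidual_of_coprime ?_
      obtain ⟨k, hk⟩ := IsPGroup.iff_orderOf.1 R.2 ⟨x, hx⟩
      rw [Subgroup.orderOf_mk] at hk
      rw [hk]
      exact Nat.Coprime.pow_left k ((Nat.coprime_primes hr Fact.out).2 fun e => hrS (e ▸ p.2))
    exact R.not_dvd_index (hrd.trans (index_dvd_of_le hRK))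
  have hKinv : Inv φ K := fun a x hx => by
    rw [hKdef, mem_iInf] at hx ⊢
    intro p
    exact (Fusion.Basic.map_pResidual_le (φ a).toMonoidHom) (mem_map_of_mem _ (hx p))
  have hKMnot : ¬ K ≤ M := by
    intro hle
    have hK : K = ⊥ := hcore K hKn hKinv hle
    have hi : M.index ≠ 1 := fun h => hMtop (index_eq_one.1 h)
    obtain ⟨r, hr, hrd⟩ := Nat.exists_prime_and_dvd hi
    haveI := Fact.mk hr
    have hrS := hKi r hr (by rw [hK, index_bot]; exact hrd.trans (index_dvd_card M))
    obtain ⟨P, hP⟩ := (hnpc r (Nat.dvd_of_mem_primeFactors hrS)).1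
    exact P.not_dvd_index (hrd.trans (index_dvd_of_le hP))
  -- the semidirect product
  let X := G ⋊[φ] A
  haveI : Finite X := Finite.of_equiv _ SemidirectProduct.equivProd.symm
  set il : G →* X := SemidirectProduct.inl with hil
  set ir : A →* X := SemidirectProduct.inr with hir
  have hilinj : Function.Injective il := SemidirectProduct.inl_injective
  have hconj : ∀ (a : A) (g : G), ir a * il g * (ir a)⁻¹ = il (φ a g) := fun a g => by
    rw [← map_inv]
    exact (SemidirectProduct.inl_aut (φ := φ) a g).symm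
  set AA : Subgroup X := ir.range with hAA
  set MM : Subgroup X := M.map il with hMM
  set B : Subgroup X := MM ⊔ AA with hB
  set KK : Subgroup X := K.map il with hKK
  have hAM : AA ≤ normalizer (MM : Set X) := by
    rintro _ ⟨a, rfl⟩
    refine mem_normalizer_iff_map_conj_eq.2 (eq_of_le_of_card_ge ?_
      (card_map_of_injective (MulAut.conj (ir a)).injective).ge)
    rintro _ ⟨_, ⟨g, hg, rfl⟩, rfl⟩
    exact ⟨φ a g, hMi a g hg, (hconj a g).symm⟩
  have hBK : B ≤ normalizer (KK : Set X) := by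
    refine sup_le ?_ ?_
    · rintro _ ⟨m, -, rfl⟩
      refine mem_normalizer_iff_map_conj_eq.2 (eq_of_le_of_card_ge ?_
        (card_map_of_injective (MulAut.conj (il m)).injective).ge)
      rintro _ ⟨_, ⟨g, hg, rfl⟩, rfl⟩
      exact ⟨m * g * m⁻¹, hKn.conj_mem g hg m, by simp⟩
    · rintro _ ⟨a, rfl⟩
      refine mem_normalizer_iff_map_conj_eq.2 (eq_of_le_of_card_ge ?_
        (card_map_of_injective (MulAut.conj (ir a)).injective).ge)
      rintro _ ⟨_, ⟨g, hg, rfl⟩, rfl⟩
      exact ⟨φ a g, hKinv a g hg, (hconj a g).symm⟩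
  have hdisj : Disjoint MM AA := by
    rw [disjoint_iff_inf_le]
    rintro _ ⟨⟨g, -, rfl⟩, ⟨a, ha⟩⟩
    have h1 : a = 1 := congrArg SemidirectProduct.right ha
    rw [mem_bot, ← ha, h1, map_one]
  have hcardB : Nat.card B = Nat.card M * Nat.card A := by
    rw [hB, Coprime.card_sup_of_le_normalizer hAM hdisj, hMM, card_map_of_injective hilinj, hAA,
      ← Nat.card_congr (MonoidHom.ofInjective (f := ir) SemidirectProduct.inr_injective).toEquiv]
  have hBcop : (Nat.card B).Coprime (Nat.card KK) := by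
    rw [hcardB, hKK, card_map_of_injective hilinj]
    exact Nat.Coprime.mul_left hcop' (hcop.coprime_dvd_right (card_subgroup_dvd_card K))
  have hBs : Group.IsSolvable B := by
    haveI := hAs
    haveI : Group.IsNilpotent M := hnil
    refine Group.isSolvable_of_ker_le_range
      ((il.domRestrict M).codRestrict B fun m => mem_sup_left ⟨m, m.2, rfl⟩)
      ((SemidirectProduct.rightHom : X →* A).comp B.subtype) ?_
    rintro ⟨z, hz⟩ hk
    rw [hB, sup_comm, ← SetLike.mem_coe, coe_mul_of_left_le_normalizer_right AA MM hAM] at hz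
    obtain ⟨_, ⟨a, rfl⟩, _, ⟨g, hg, rfl⟩, rfl⟩ := hz
    have ha : a * 1 = 1 := MonoidHom.mem_ker.1 hk
    rw [mul_one] at ha
    subst ha
    exact ⟨⟨g, hg⟩, Subtype.ext (by simp)⟩
  obtain ⟨r, hr, hrK⟩ := Nat.exists_prime_and_dvd
    (show Nat.card K ≠ 1 from fun h => hKMnot (by rw [card_eq_one.1 h]; exact bot_le))
  have : Fact r.Prime := ⟨hr⟩
  obtain ⟨R, hR⟩ := Coprime.exists_invariant_sylow (A := B) (K := KK) hBK hBcop (Or.inl hBs) r
  set R' := ((R : Subgroup KK).map KK.subtype).comap il with hR'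
  have hrange : (R : Subgroup KK).map KK.subtype ≤ il.range :=
    (map_subtype_le _).trans (map_le_range _ _)
  have hmapR : R'.map il = (R : Subgroup KK).map KK.subtype := map_comap_eq_self hrange
  have hR'K : R' ≤ K := fun x hx => by
    obtain ⟨y, hy, hyx⟩ := map_subtype_le _ (mem_comap.1 hx : il x ∈ _)
    exact hilinj hyx ▸ hy
  have hR'p : IsPGroup r R' := (R.2.map _).comap_of_injective il hilinj
  have hMR : M ≤ normalizer (R' : Set G) := fun m hm => mem_normalizer_iff.2 fun x => by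
    rw [hR', mem_comap, mem_comap, map_mul, map_mul, map_inv]
    exact mem_normalizer_iff.1 (hR (mem_sup_left ⟨m, hm, rfl⟩)) _
  have hR'i : Inv φ R' := fun a x hx => by
    rw [hR', mem_comap, ← hconj]
    exact (mem_normalizer_iff.1 (hR (mem_sup_right ⟨a, rfl⟩)) _).1 hx
  have hdiv : r ∣ Nat.card R' := by
    rw [Nat.card_congr (R'.equivMapOfInjective il hilinj).toEquiv, hmapR,
      card_map_of_injective KK.subtype_injective]
    exact R.dvd_card_of_dvd_card (by rwa [hKK, card_map_of_injective hilinj])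
  have hnotle : ¬ R' ≤ M := fun hle =>
    hr.not_dvd_one (hcop' ▸ Nat.dvd_gcd (hdiv.trans (card_dvd_of_le hle)) hrK)
  have hR'n : R'.Normal := by
    refine normalizer_eq_top_iff.1 (htop _ hMR (inv_normalizer hR'i) fun hle => hnotle ?_)
    exact Subgroup.le_normalizer.trans hle
  have hsup : R' ⊔ M = ⊤ := by
    refine htop _ le_sup_right (fun a x hx => ?_) fun hle => hnotle (le_sup_left.trans hle)
    have hle : (R' ⊔ M).map (φ a).toMonoidHom ≤ R' ⊔ M := by
      rw [Subgroup.map_sup, map_eq_of_inv hR'i a, map_eq_of_inv hMi a]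
    exact hle ⟨x, hx, rfl⟩
  have hRs : Group.IsSolvable R' := by
    have := hR'p.isNilpotent
    infer_instance
  have hQs : Group.IsSolvable (G ⧸ R') := by
    haveI : Group.IsNilpotent M := hnil
    refine Group.isSolvable_of_surjective (f := (QuotientGroup.mk' R').comp M.subtype) ?_
    rw [← MonoidHom.range_eq_top, MonoidHom.range_comp, range_subtype]
    have h1 := Subgroup.map_sup R' M (QuotientGroup.mk' R')
    rw [hsup, map_top_of_surjective _ (QuotientGroup.mk'_surjective R'),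
      (map_eq_bot_iff R').2 (QuotientGroup.ker_mk' R').ge, bot_sup_eq] at h1
    exact h1.symm
  exact Group.isSolvable_of_ker_le_range R'.subtype (QuotientGroup.mk' R')
    (by rw [QuotientGroup.ker_mk', range_subtype])

/-- A nilpotent maximal invariant subgroup with Sylow `2`-subgroups of class at most two. -/
theorem isSolvable [Finite A] (hAodd : Odd (Nat.card A)) : ∀ (n : ℕ) (G : Type u) [Group G]
    [Finite G], Nat.card G = n → ∀ φ : A →* MulAut G, (Nat.card A).Coprime (Nat.card G) →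
    ∀ M : Subgroup G, M ≠ ⊤ → Inv φ M → (∀ H : Subgroup G, M ≤ H → H ≠ ⊤ → Inv φ H → H = M) →
      Group.IsNilpotent M → ClassLe M → Group.IsSolvable G := by
  intro n
  induction n using Nat.strong_induction_on with
  | _ n ih =>
    intro G _ _ hn φ hcop M hMtop hMi hMmax hnil hcls
    subst hn
    have hAs : Group.IsSolvable A := CfsgLib.OddOrder.Final.oddSolvable A hAodd
    by_cases hcore : ∀ N : Subgroup G, N.Normal → Inv φ N → N ≤ M → N = ⊥
    · refine isSolvable_of_core_free φ hAs hcop (fun a => ?_) hMtop hMi hMmax hnil hcls hcore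
      exact Odd.of_dvd_nat hAodd ((orderOf_map_dvd φ a).trans (orderOf_dvd_natCard a))
    push Not at hcore
    obtain ⟨N, hNn, hNi, hNM, hN1⟩ := hcore
    set q := QuotientGroup.mk' N
    set ψ := quotAut φ N hNi
    have hcm : (M.map q).comap q = M := by
      rw [comap_map_eq, QuotientGroup.ker_mk', sup_eq_left.2 hNM]
    have : Group.IsNilpotent M := hnil
    have hnil' : Group.IsNilpotent (M.map q) :=
      Group.nilpotent_of_surjective (q.subgroupMap M) (q.subgroupMap_surjective M)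
    have hMi' : Inv ψ (M.map q) := by
      rintro a _ ⟨m, hm, rfl⟩
      exact ⟨φ a m, hMi a m hm, rfl⟩
    have := ih _ (Solvable.Basic.card_quotient_lt N hN1) (G ⧸ N) rfl ψ
      (hcop.coprime_dvd_right N.card_quotient_dvd_card) (M.map q)
      (fun h => hMtop (by rw [← hcm, h, comap_top])) hMi'
      (fun H hMH hH hHi => by
        have h1 := hMmax (H.comap q) (hcm.symm.le.trans (comap_mono hMH))
          (fun h => hH (by
            rw [← map_comap_eq_self_of_surjective (QuotientGroup.mk'_surjective N) H, h,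
              map_top_of_surjective _ (QuotientGroup.mk'_surjective N)]))
          (inv_comap φ N hNi hHi)
        rw [← map_comap_eq_self_of_surjective (QuotientGroup.mk'_surjective N) H, h1])
      hnil' (hcls.map q)
    have hNs : Group.IsSolvable N :=
      Group.isSolvable_of_isSolvable_injective (inclusion_injective hNM)
    exact Group.isSolvable_of_ker_le_range N.subtype q
      (by rw [QuotientGroup.ker_mk', range_subtype])

end CfsgLib.Frobenius.ClassTwo
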