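import Cfsg.Agent.Lib.Frobenius.ClassTwo.Local

/-!
At most one partner: the conjugation invariant subgroup and the normal `2`-complement theorem.
-/

set_option autoImplicit false
set_option linter.style.haveILetI false

namespace CfsgLib.Frobenius.ClassTwo

open Subgroup
open scoped Pointwise

universe u

variable {G : Type u} [Group G] (S : Setting G)

namespace Setting

/-- The normal closure of the centre in the normalizer of `Q`. -/
def Y (Q : Subgroup G) : Subgroup G :=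
  closure {w | ∃ h ∈ normalizer (Q : Set G), ∃ z ∈ S.Z, w = h * z * h⁻¹}

/-- A bad subgroup of index two. -/
def BadTwo (Q : Subgroup G) : Prop := S.Bad Q ∧ S.Two Q

variable {S}

theorem conj_mem_Y {Q : Subgroup G} {h z : G} (hh : h ∈ normalizer (Q : Set G)) (hz : z ∈ S.Z) :
    h * z * h⁻¹ ∈ S.Y Q :=
  subset_closure ⟨h, hh, z, hz, rfl⟩

theorem Z_le_Y (Q : Subgroup G) : S.Z ≤ S.Y Q := fun z hz => by
  simpa using conj_mem_Y (S := S) (Q := Q) (one_mem _) hz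

theorem Y_conj {Q : Subgroup G} {h y : G} (hh : h ∈ normalizer (Q : Set G)) (hy : y ∈ S.Y Q) :
    h * y * h⁻¹ ∈ S.Y Q := by
  induction hy using closure_induction with
  | mem w hw =>
    obtain ⟨g, hg, z, hz, rfl⟩ := hw
    rw [show h * (g * z * g⁻¹) * h⁻¹ = h * g * z * (h * g)⁻¹ by group]
    exact conj_mem_Y (mul_mem hh hg) hz
  | one => simp
  | mul a b _ _ ha hb => rw [← conj_mul]; exact mul_mem ha hb
  | inv a _ ha => rw [← conj_inv]; exact inv_mem ha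

theorem Bad.Y_le {Q : Subgroup G} (hQ : S.Bad Q) : S.Y Q ≤ Q := by
  rw [Y, closure_le]
  rintro _ ⟨h, hh, z, hz, rfl⟩
  exact (mem_normalizer_iff.1 hh z).1 (hQ.1 hz)

theorem Bad.Y_comm {Q : Subgroup G} (hQ : S.Bad Q) {y q : G} (hy : y ∈ S.Y Q) (hq : q ∈ Q) :
    Commute q y := by
  induction hy using closure_induction with
  | mem w hw =>
    obtain ⟨g, hg, z, hz, rfl⟩ := hw
    have hq' : g⁻¹ * q * g ∈ Q := by simpa using (mem_normalizer_iff.1 (inv_mem hg) q).1 hq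
    have := ((comm_Z hz (hQ.2.1 hq')).map (MulAut.conj g).toMonoidHom)
    have e1 : (MulAut.conj g).toMonoidHom (g⁻¹ * q * g) = q := by simp [mul_assoc]
    rwa [e1] at this
  | one => exact Commute.one_right q
  | mul a b _ _ ha hb => exact ha.mul_right hb
  | inv a _ ha => exact ha.inv_right

variable [Finite G]

/-- The data carried by a bad subgroup of index two and an element of `P` outside it. -/
structure Mover (S : Setting G) (Q : Subgroup G) (s x : G) : Prop where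
  mem : x ∈ normalizer (Q : Set G)
  odd : Odd (orderOf x)
  notM : x ∉ S.M
  inv : s * x * s⁻¹ * x ∈ S.B Q

theorem BadTwo.exists_mover {Q : Subgroup G} (hQ : S.BadTwo Q) {s : G}
    (hs : s ∈ (S.P : Subgroup G)) (hsQ : s ∉ Q) : ∃ x, Mover S Q s x := by
  obtain ⟨x, h1, h2, h3, h4⟩ := (S.eq_of_two hQ.1 hQ.2).inverter.2 s hs hsQ
  exact ⟨x, h1, h2, h3, h4⟩

theorem BadTwo.exists_notMem {Q : Subgroup G} (hQ : S.BadTwo Q) :
    ∃ s ∈ (S.P : Subgroup G), s ∉ Q := by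
  by_contra h
  push Not at h
  refine hQ.1.2.2 ?_
  rw [le_antisymm hQ.1.2.1 h]
  exact S.normalizer_P_le

theorem commute_of_sq {x a : G} (hodd : Odd (orderOf x)) (h : Commute (x * x) a) : Commute x a := by
  obtain ⟨k, hk⟩ := hodd
  have hx : x = (x * x) ^ (k + 1) := by
    rw [← pow_two, ← pow_mul, show 2 * (k + 1) = orderOf x + 1 by omega, pow_succ,
      pow_orderOf_eq_one, one_mul]
  rw [hx]; exact h.pow_left _

theorem Mover.sq_notM {Q : Subgroup G} {s x : G} (h : Mover S Q s x) : x * x ∉ S.M := fun hm => by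
  refine h.notM ?_
  obtain ⟨k, hk⟩ := h.odd
  have hx : x = (x * x) ^ (k + 1) := by
    rw [← pow_two, ← pow_mul, show 2 * (k + 1) = orderOf x + 1 by omega, pow_succ,
      pow_orderOf_eq_one, one_mul]
  rw [hx]; exact pow_mem hm _

theorem Mover.conj_eq {Q : Subgroup G} {s x z : G} (hQ : S.Bad Q) (hs : s ∈ (S.P : Subgroup G))
    (h : Mover S Q s x) (hz : z ∈ S.Z) : s * (x * z * x⁻¹) * s⁻¹ = x⁻¹ * z * x := by
  obtain ⟨b, hb, he⟩ : ∃ b ∈ S.B Q, s * x * s⁻¹ = x⁻¹ * b := by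
    refine ⟨x * (s * x * s⁻¹), ?_, by group⟩
    have := B_conj h.mem h.inv
    rwa [show x * (s * x * s⁻¹ * x) * x⁻¹ = x * (s * x * s⁻¹) by group] at this
  have hsz : s * z * s⁻¹ = z := by rw [(comm_Z hz hs).eq, mul_inv_cancel_right]
  have hbz : b * z * b⁻¹ = z := S.M_comm_Z (hQ.B_le_M hb) hz
  calc s * (x * z * x⁻¹) * s⁻¹ = (s * x * s⁻¹) * (s * z * s⁻¹) * (s * x * s⁻¹)⁻¹ := by group
    _ = x⁻¹ * (b * z * b⁻¹) * x := by rw [he, hsz]; group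
    _ = x⁻¹ * z * x := by rw [hbz]

/-- The mover fixes the elements of the centre whose conjugates stay in the centre. -/
theorem Mover.commute {Q : Subgroup G} {s x a : G} (hQ : S.Bad Q) (hs : s ∈ (S.P : Subgroup G))
    (h : Mover S Q s x) (ha : a ∈ S.Z) (hxa : x * a * x⁻¹ ∈ S.Z) : Commute x a := by
  have h1 := h.conj_eq hQ hs ha
  rw [(comm_Z hxa hs).eq, mul_inv_cancel_right] at h1
  refine commute_of_sq h.odd ?_
  show x * x * a = a * (x * x)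
  calc x * x * a = x * (x * a * x⁻¹) * x := by group
    _ = x * (x⁻¹ * a * x) * x := by rw [h1]
    _ = a * (x * x) := by group

theorem Mover.commute' {Q : Subgroup G} {s x a : G} (hQ : S.Bad Q) (hs : s ∈ (S.P : Subgroup G))
    (h : Mover S Q s x) (ha : a ∈ S.Z) (hxa : x⁻¹ * a * x ∈ S.Z) : Commute x a := by
  have h1 := h.commute hQ hs hxa (by
    rwa [show x * (x⁻¹ * a * x) * x⁻¹ = a by group])
  have h2 : x * (x⁻¹ * a * x) * x⁻¹ = x⁻¹ * a * x := by rw [h1.eq, mul_inv_cancel_right]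
  rw [show x * (x⁻¹ * a * x) * x⁻¹ = a by group] at h2
  show x * a = a * x
  calc x * a = x * (x⁻¹ * a * x) := by rw [← h2]
    _ = a * x := by group

/-- Elements of odd order of the normalizer act trivially on `Q` modulo `Y`. -/
theorem Mover.comm_mem_Y {Q : Subgroup G} {s x q : G} (hQ : S.Bad Q)
    (hs : s ∈ (S.P : Subgroup G)) (h : Mover S Q s x) (hq : q ∈ Q) :
    x * q * x⁻¹ * q⁻¹ ∈ S.Y Q := by
  set N := normalizer (Q : Set G) with hN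
  let Kt : Subgroup G :=
    { carrier := {g | g ∈ N ∧ ∀ a ∈ Q, g * a * g⁻¹ * a⁻¹ ∈ S.Y Q}
      one_mem' := ⟨one_mem _, fun a _ => by simp⟩
      mul_mem' := fun {g k} hg hk => ⟨mul_mem hg.1 hk.1, fun a ha => by
        have hka : k * a * k⁻¹ ∈ Q := (mem_normalizer_iff.1 hk.1 a).1 ha
        have := mul_mem (hg.2 _ hka) (hk.2 a ha)
        rwa [show g * (k * a * k⁻¹) * g⁻¹ * (k * a * k⁻¹)⁻¹ * (k * a * k⁻¹ * a⁻¹) =
          g * k * a * (g * k)⁻¹ * a⁻¹ by group] at this⟩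
      inv_mem' := fun {g} hg => ⟨inv_mem hg.1, fun a ha => by
        have ha' : g⁻¹ * a * g ∈ Q := by simpa using (mem_normalizer_iff.1 (inv_mem hg.1) a).1 ha
        have h1 := hg.2 _ ha'
        have h2 := inv_mem h1
        have e : (g * (g⁻¹ * a * g) * g⁻¹ * (g⁻¹ * a * g)⁻¹)⁻¹ =
            g⁻¹ * a * g * a⁻¹ := by group
        rw [e] at h2
        rwa [inv_inv]⟩ }
  have hM : ∀ m, m ∈ N → m ∈ S.M → m ∈ Kt := fun m hmN hmM => ⟨hmN, fun a ha => by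
    obtain ⟨u, hu, hu'⟩ := S.exists_inner hmM
    rw [hu' a (hQ.2.1 ha)]
    exact Z_le_Y Q (commutator_mem hu (hQ.2.1 ha))⟩
  have hconj : ∀ g ∈ N, ∀ k ∈ Kt, g * k * g⁻¹ ∈ Kt := fun g hg k hk =>
    ⟨mul_mem (mul_mem hg hk.1) (inv_mem hg), fun a ha => by
      have ha' : g⁻¹ * a * g ∈ Q := by simpa using (mem_normalizer_iff.1 (inv_mem hg) a).1 ha
      have := Y_conj hg (hk.2 _ ha')
      rwa [show g * (k * (g⁻¹ * a * g) * k⁻¹ * (g⁻¹ * a * g)⁻¹) * g⁻¹ =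
        g * k * g⁻¹ * a * (g * k * g⁻¹)⁻¹ * a⁻¹ by group] at this⟩
  have hsK : s ∈ Kt := hM s (S.le_normalizer hQ.1 hQ.2.1 hs) (S.le_M hs)
  have hbK : s * x * s⁻¹ * x ∈ Kt := hM _ (B_le_normalizer h.inv) (hQ.B_le_M h.inv)
  have h2 : x * x ∈ Kt := by
    have := mul_mem (mul_mem (hconj x h.mem s hsK) (inv_mem hsK)) hbK
    rwa [show x * s * x⁻¹ * s⁻¹ * (s * x * s⁻¹ * x) = x * x by group] at this
  obtain ⟨k, hk⟩ := h.odd
  have hx : x = (x * x) ^ (k + 1) := by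
    rw [← pow_two, ← pow_mul, show 2 * (k + 1) = orderOf x + 1 by omega, pow_succ,
      pow_orderOf_eq_one, one_mul]
  have hxK : x ∈ Kt := by rw [hx]; exact pow_mem h2 _
  exact hxK.2 q hq

/-- `Y` is not inside another bad subgroup of index two if and only if the converse holds. -/
theorem BadTwo.symm {Q Q' : Subgroup G} (hQ : S.BadTwo Q) (hQ' : S.BadTwo Q')
    (h : S.Y Q' ≤ Q) : S.Y Q ≤ Q' := by
  intro y hy
  by_contra hyQ'
  have hyP := hQ.1.2.1 (hQ.1.Y_le hy)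
  refine hQ'.1.2.2 fun g hg => S.normalizer_Z_le (mem_normalizer_of_conj fun z hz => ?_)
  have hw : g * z * g⁻¹ ∈ S.Y Q' := conj_mem_Y hg hz
  refine mem_Z (hQ'.1.2.1 (hQ'.1.Y_le hw)) fun a ha => ?_
  by_cases haQ : a ∈ Q'
  · exact hQ'.1.Y_comm hw haQ
  · have h1 : Commute (y * a) (g * z * g⁻¹) := hQ'.1.Y_comm hw (hQ'.2 y hyP a ha hyQ' haQ)
    have h2 : Commute y (g * z * g⁻¹) := (hQ.1.Y_comm hy (h hw)).symm
    have h3 := h2.inv_left.mul_left h1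
    rwa [inv_mul_cancel_left] at h3

theorem Bad.inf_Z {Q : Subgroup G} (hQ : S.Bad Q) {Q₁ : Subgroup G} (hQ₁ : S.BadTwo Q₁)
    (h2 : S.Two Q) {y₁ : G} (hy₁ : y₁ ∈ S.Y Q₁) (hy₁Q : y₁ ∉ Q) {w : G} (hw : w ∈ S.Y Q)
    (hwQ₁ : w ∈ Q₁) : w ∈ S.Z := by
  refine mem_Z (hQ.2.1 (hQ.Y_le hw)) fun a ha => ?_
  by_cases haQ : a ∈ Q
  · exact hQ.Y_comm hw haQ
  · have hy₁P := hQ₁.1.2.1 (hQ₁.1.Y_le hy₁)
    have h1 : Commute (y₁ * a) w := hQ.Y_comm hw (h2 y₁ hy₁P a ha hy₁Q haQ)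
    have h3 : Commute y₁ w := (hQ₁.1.Y_comm hy₁ hwQ₁).symm
    have h4 := h3.inv_left.mul_left h1
    rwa [inv_mul_cancel_left] at h4

/-- With a partner, `Y` is `Z` extended by an involution. -/
theorem BadTwo.exists_invol {Q Q₁ : Subgroup G} (hQ : S.BadTwo Q) (hQ₁ : S.BadTwo Q₁)
    (h : ¬ S.Y Q ≤ Q₁) :
    (∀ a ∈ S.Y Q, ∀ b ∈ S.Y Q, a ∉ S.Z → b ∉ S.Z → a * b ∈ S.Z) ∧
      ∃ y ∈ S.Y Q, y ∉ Q₁ ∧ y * y = 1 := by
  obtain ⟨y₁, hy₁, hy₁Q⟩ : ∃ y₁ ∈ S.Y Q₁, y₁ ∉ Q := by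
    by_contra hc
    push Not at hc
    exact h (hQ.symm hQ₁ hc)
  have hZ : ∀ w ∈ S.Y Q, w ∈ Q₁ → w ∈ S.Z := fun w hw hwQ₁ =>
    hQ.1.inf_Z hQ₁ hQ.2 hy₁ hy₁Q hw hwQ₁
  have hYP : ∀ w ∈ S.Y Q, w ∈ (S.P : Subgroup G) := fun w hw => hQ.1.2.1 (hQ.1.Y_le hw)
  have hY2 : ∀ a ∈ S.Y Q, ∀ b ∈ S.Y Q, a ∉ S.Z → b ∉ S.Z → a * b ∈ S.Z :=
    fun a ha b hb haZ hbZ => hZ _ (mul_mem ha hb)
      (hQ₁.2 a (hYP a ha) b (hYP b hb) (fun h' => haZ (hZ a ha h')) (fun h' => hbZ (hZ b hb h')))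
  refine ⟨hY2, ?_⟩
  have hsq : ∀ a ∈ S.Y Q, a * a ∈ S.Z := fun a ha => by
    by_cases haZ : a ∈ S.Z
    · exact mul_mem haZ haZ
    · exact hY2 a ha a ha haZ haZ
  obtain ⟨s, hs, hsQ⟩ := hQ.exists_notMem
  obtain ⟨x, hx⟩ := hQ.exists_mover hs hsQ
  obtain ⟨ζ, hζ, hζ'⟩ : ∃ ζ ∈ S.Z, x⁻¹ * ζ * x ∉ S.Z := by
    by_contra hc
    push Not at hc
    refine hx.notM (S.normalizer_Z_le ?_)
    have := mem_normalizer_of_conj (g := x⁻¹) (X := S.Z) fun z hz => by simpa using hc z hz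
    simpa using inv_mem this
  set v := x⁻¹ * ζ * x with hv
  have hvY : v ∈ S.Y Q := by
    have := conj_mem_Y (S := S) (inv_mem hx.mem) hζ
    rwa [inv_inv] at this
  have hv2 : v * v = ζ * ζ := by
    have hmem : x⁻¹ * (ζ * ζ) * x ∈ S.Z := by
      rw [show x⁻¹ * (ζ * ζ) * x = v * v by rw [hv]; group]
      exact hsq v hvY
    have hc := hx.commute' hQ.1 hs (mul_mem hζ hζ) hmem
    calc v * v = x⁻¹ * (ζ * ζ * x) := by rw [hv]; group
      _ = x⁻¹ * (x * (ζ * ζ)) := by rw [hc.eq]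
      _ = ζ * ζ := by group
  have hy : v * ζ⁻¹ ∈ S.Y Q := mul_mem hvY (inv_mem (Z_le_Y Q hζ))
  refine ⟨v * ζ⁻¹, hy, fun hQ₁' => ?_, ?_⟩
  · refine hζ' ?_
    have := mul_mem (hZ _ hy hQ₁') hζ
    rwa [inv_mul_cancel_right] at this
  · have hc : Commute v ζ⁻¹ := (comm_Z hζ (hYP v hvY)).inv_right
    calc v * ζ⁻¹ * (v * ζ⁻¹) = v * (ζ⁻¹ * v) * ζ⁻¹ := by group
      _ = v * v * (ζ⁻¹ * ζ⁻¹) := by rw [← hc.eq]; group
      _ = 1 := by rw [hv2]; group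

/-- A bad subgroup of index two has at most one partner. -/
theorem BadTwo.partner_le {Q Q₁ Q₂ : Subgroup G} (hQ : S.BadTwo Q) (hQ₁ : S.BadTwo Q₁)
    (hQ₂ : S.BadTwo Q₂) (h₁ : ¬ S.Y Q ≤ Q₁) (h₂ : ¬ S.Y Q ≤ Q₂) : Q₂ ≤ Q₁ := by
  have hn₁ : ¬ S.Y Q₁ ≤ Q := fun hc => h₁ (hQ.symm hQ₁ hc)
  have hn₂ : ¬ S.Y Q₂ ≤ Q := fun hc => h₂ (hQ.symm hQ₂ hc)
  obtain ⟨hY2, y, hy, hyQ₁, hy2⟩ := hQ.exists_invol hQ₁ h₁
  obtain ⟨-, y₁, hy₁, hy₁Q, hy₁2⟩ := hQ₁.exists_invol hQ hn₁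
  obtain ⟨-, y₂, hy₂, hy₂Q, hy₂2⟩ := hQ₂.exists_invol hQ hn₂
  have hyP := hQ.1.2.1 (hQ.1.Y_le hy)
  have hy₁P := hQ₁.1.2.1 (hQ₁.1.Y_le hy₁)
  have hy₂P := hQ₂.1.2.1 (hQ₂.1.Y_le hy₂)
  have hyZ : y ∉ S.Z := fun hc => hyQ₁ (hQ₁.1.1 hc)
  obtain ⟨x, hx⟩ := hQ.exists_mover hy₁P hy₁Q
  set z := y₁ * y * y₁⁻¹ * y⁻¹ with hz
  have hzZ : z ∈ S.Z := commutator_mem hy₁P hyP
  have hy₁y : y₁ * y * y₁⁻¹ = z * y := by rw [hz]; group
  -- the commutator is moved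
  have hzx : ¬ Commute x z := by
    intro hc
    refine hx.sq_notM (S.normalizer_Z_le (mem_normalizer_of_conj fun ζ hζ => ?_))
    set u := x⁻¹ * ζ * x with hu
    have huY : u ∈ S.Y Q := by
      have := conj_mem_Y (S := S) (inv_mem hx.mem) hζ
      rwa [inv_inv] at this
    obtain ⟨e, he, heu⟩ : ∃ e ∈ zpowers z, y₁ * u * y₁⁻¹ = e * u := by
      by_cases huZ : u ∈ S.Z
      · exact ⟨1, one_mem _, by rw [(comm_Z huZ hy₁P).eq, mul_inv_cancel_right, one_mul]⟩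
      · refine ⟨z, mem_zpowers z, ?_⟩
        have hyu : y * u ∈ S.Z := hY2 y hy u huY hyZ huZ
        have h1 : y₁ * (y * u) * y₁⁻¹ = y * u := by
          rw [(comm_Z hyu hy₁P).eq, mul_inv_cancel_right]
        have h2 : z * (y * (y₁ * u * y₁⁻¹)) = y * u := by
          calc z * (y * (y₁ * u * y₁⁻¹)) = y₁ * (y * u) * y₁⁻¹ := by rw [hz]; group
            _ = y * u := h1
        calc y₁ * u * y₁⁻¹ = y⁻¹ * z⁻¹ * (z * (y * (y₁ * u * y₁⁻¹))) := by group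
          _ = (z * y)⁻¹ * y * u := by rw [h2]; group
          _ = z⁻¹ * u := by rw [← (comm_Z hzZ hyP).eq]; group
          _ = z * u := by
            congr 1
            have : z * z = 1 := by
              have h3 : z * y * (z * y) = 1 := by
                rw [← hy₁y, conj_mul, hy2, mul_one, mul_inv_cancel]
              calc z * z = z * z * (y * y) := by rw [hy2, mul_one]
                _ = z * (z * y) * y := by group
                _ = z * (y * z) * y := by rw [(comm_Z hzZ hyP).eq]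
                _ = 1 := by rw [← h3]; group
            exact inv_eq_of_mul_eq_one_right this
    have hxe : Commute x e := by
      obtain ⟨i, rfl⟩ := mem_zpowers_iff.1 he
      exact hc.zpow_right i
    have heZ : e ∈ S.Z := zpowers_le.2 hzZ he
    have h1 := hx.conj_eq hQ.1 hy₁P hζ
    have h2 : x * ζ * x⁻¹ = y₁⁻¹ * u * y₁ := by rw [hu, ← h1]; group
    have h3 : y₁⁻¹ * u * y₁ = e⁻¹ * u := by
      have h4 : y₁⁻¹ * (e * u) * y₁ = u := by rw [← heu]; group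
      calc y₁⁻¹ * u * y₁ = y₁⁻¹ * e⁻¹ * y₁ * (y₁⁻¹ * (e * u) * y₁) := by group
        _ = e⁻¹ * u := by
          rw [h4, (comm_Z (inv_mem heZ) (inv_mem hy₁P)).eq, inv_mul_cancel_right]
    have h5 : x * x * ζ * (x * x)⁻¹ = e⁻¹ * ζ := by
      calc x * x * ζ * (x * x)⁻¹ = x * (x * ζ * x⁻¹) * x⁻¹ := by group
        _ = (x * e⁻¹) * (x⁻¹ * ζ) * (x * x⁻¹) := by rw [h2, h3, hu]; group
        _ = e⁻¹ * ζ := by rw [hxe.inv_right.eq]; group
    rw [h5]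
    exact mul_mem (inv_mem heZ) hζ
  -- the difference of the two involutions
  set q₀ := y₁ * y₂ with hq₀
  have hq₀Q : q₀ ∈ Q := hQ.2 y₁ hy₁P y₂ hy₂P hy₁Q hy₂Q
  have hy₁inv : y₁⁻¹ = y₁ := inv_eq_of_mul_eq_one_right hy₁2
  have hy₂e : y₂ = y₁ * q₀ := by rw [hq₀, ← mul_assoc, hy₁2, one_mul]
  have hyQ₂ : y ∉ Q₂ := fun hc =>
    hyZ (hQ.1.inf_Z hQ₂ hQ.2 hy₂ hy₂Q hy hc)
  -- commutators of `Q` with `y₁` and `y₂` agree
  have hcomQ : ∀ q ∈ Q, q₀ * q * q₀⁻¹ * q⁻¹ ∈ zpowers z := by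
    intro q hq
    set c := q₀ * q * q₀⁻¹ * q⁻¹ with hc
    have hqP := hQ.1.2.1 hq
    have hcZ : c ∈ S.Z := commutator_mem (hQ.1.2.1 hq₀Q) hqP
    have key : ∀ (Qi : Subgroup G), S.BadTwo Qi → ∀ yi ∈ S.Y Qi, y ∉ Qi → yi * y * yi⁻¹ = z * y →
        ∃ e ∈ zpowers z, yi * q * yi⁻¹ = e * q := by
      intro Qi hQi yi hyi hyQi hzy
      have hyiP := hQi.1.2.1 (hQi.1.Y_le hyi)
      by_cases hqi : q ∈ Qi
      · exact ⟨1, one_mem _, by
          rw [← (hQi.1.Y_comm hyi hqi).eq, mul_inv_cancel_right, one_mul]⟩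
      · refine ⟨z⁻¹, inv_mem (mem_zpowers z), ?_⟩
        have h1 : yi * (y * q) * yi⁻¹ = y * q := by
          rw [← (hQi.1.Y_comm hyi (hQi.2 y hyP q hqP hyQi hqi)).eq, mul_inv_cancel_right]
        calc yi * q * yi⁻¹ = (yi * y * yi⁻¹)⁻¹ * (yi * (y * q) * yi⁻¹) := by group
          _ = (z * y)⁻¹ * (y * q) := by rw [hzy, h1]
          _ = z⁻¹ * q := by rw [← (comm_Z hzZ hyP).eq]; group
    have hz2 : y₂ * y * y₂⁻¹ = z * y := by
      rw [hy₂e, show y₁ * q₀ * y * (y₁ * q₀)⁻¹ = y₁ * (q₀ * y * q₀⁻¹) * y₁⁻¹ by group,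
        (hQ.1.Y_comm hy hq₀Q).eq, mul_inv_cancel_right, hy₁y]
    obtain ⟨e₁, he₁, h1⟩ := key Q₁ hQ₁ y₁ hy₁ hyQ₁ hy₁y
    obtain ⟨e₂, he₂, h2⟩ := key Q₂ hQ₂ y₂ hy₂ hyQ₂ hz2
    have h3 : y₂ * q * y₂⁻¹ = c * (e₁ * q) := by
      calc y₂ * q * y₂⁻¹ = y₁ * (q₀ * q * q₀⁻¹) * y₁⁻¹ := by rw [hy₂e]; group
        _ = y₁ * (c * q) * y₁⁻¹ := by rw [hc]; group
        _ = (y₁ * c * y₁⁻¹) * (y₁ * q * y₁⁻¹) := (conj_mul).symm
        _ = c * (e₁ * q) := by rw [h1, (comm_Z hcZ hy₁P).eq, mul_inv_cancel_right]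
    rw [h2, ← mul_assoc] at h3
    have h4 : e₂ = c * e₁ := mul_right_cancel h3
    have : c = e₂ * e₁⁻¹ := by rw [h4, mul_inv_cancel_right]
    rw [this]
    exact mul_mem he₂ (inv_mem he₁)
  -- `q₀` is central in `Q`
  have hxc : ∀ a ∈ zpowers z, a ∈ S.Z → Commute x a → a = 1 := by
    intro a ha haZ hxa
    by_contra ha1
    have hz21 : z * z = 1 := by
      have h3 : z * y * (z * y) = 1 := by
        rw [← hy₁y, conj_mul, hy2, mul_one, mul_inv_cancel]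
      calc z * z = z * z * (y * y) := by rw [hy2, mul_one]
        _ = z * (z * y) * y := by group
        _ = z * (y * z) * y := by rw [(comm_Z hzZ hyP).eq]
        _ = 1 := by rw [← h3]; group
    obtain ⟨i, rfl⟩ := mem_zpowers_iff.1 ha
    rcases Int.even_or_odd i with ⟨j, rfl⟩ | ⟨j, rfl⟩
    · exact ha1 (by rw [← two_mul, zpow_mul, zpow_two, hz21, one_zpow])
    · rw [zpow_add_one, zpow_mul, zpow_two, hz21, one_zpow, one_mul] at hxa
      exact hzx hxa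
  have hq₀c : ∀ q ∈ Q, Commute q₀ q := by
    intro q hq
    have hcZ := commutator_mem (S := S) (hQ.1.2.1 hq₀Q) (hQ.1.2.1 hq)
    have hq₀' : x⁻¹ * q₀ * x ∈ Q := by simpa using (mem_normalizer_iff.1 (inv_mem hx.mem) q₀).1 hq₀Q
    have hq' : x⁻¹ * q * x ∈ Q := by simpa using (mem_normalizer_iff.1 (inv_mem hx.mem) q).1 hq
    have hxc' : Commute x (q₀ * q * q₀⁻¹ * q⁻¹) := hx.commute' hQ.1 hy₁P hcZ (by
      have := commutator_mem (S := S) (hQ.1.2.1 hq₀') (hQ.1.2.1 hq')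
      rwa [show x⁻¹ * q₀ * x * (x⁻¹ * q * x) * (x⁻¹ * q₀ * x)⁻¹ * (x⁻¹ * q * x)⁻¹ =
        x⁻¹ * (q₀ * q * q₀⁻¹ * q⁻¹) * x by group] at this)
    have h1 := hxc _ (hcomQ q hq) hcZ hxc'
    rwa [mul_inv_eq_one, mul_inv_eq_iff_eq_mul] at h1
  have hQ₂Q : ∀ w ∈ Q, w ∈ Q₂ → w ∈ Q₁ := by
    intro w hw hw₂
    by_contra hw₁
    have hyw : y * w ∈ Q₁ := hQ₁.2 y hyP w (hQ.1.2.1 hw) hyQ₁ hw₁
    have hcy : Commute y₁ (y * w) := (hQ₁.1.Y_comm hy₁ hyw).symm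
    have hcw : Commute y₁ w := by
      have h := ((hQ₂.1.Y_comm hy₂ hw₂).symm).mul_left (hq₀c w hw).inv_left
      rwa [hy₂e, mul_inv_cancel_right] at h
    have hy₁y' : Commute y₁ y := by
      have h := hcy.mul_right hcw.inv_right
      rwa [mul_inv_cancel_right] at h
    exact hzx (by
      rw [show z = 1 by rw [hz, hy₁y'.eq, mul_inv_cancel_right, mul_inv_cancel]]
      exact Commute.one_right x)
  have hq₀Q₁ : q₀ ∈ Q₁ := by
    by_contra hq₁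
    have hw : y * q₀ ∈ Q₁ := hQ₁.2 y hyP q₀ (hQ.1.2.1 hq₀Q) hyQ₁ hq₁
    set w := y * q₀ with hwdef
    have hwQ : w ∈ Q := mul_mem (hQ.1.Y_le hy) hq₀Q
    have hc1 : Commute y₁ w := (hQ₁.1.Y_comm hy₁ hw).symm
    have hc2 : Commute y w := (hQ.1.Y_comm hy hwQ).symm
    have hq₀w : q₀ = y * w := by rw [hwdef, ← mul_assoc, hy2, one_mul]
    have hprod : y₁ * y * (y₁ * y) * (w * w) = 1 := by
      rw [← hy₂2, hy₂e, hq₀w]
      calc y₁ * y * (y₁ * y) * (w * w) = y₁ * y * ((y₁ * y) * w) * w := by group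
        _ = y₁ * y * (w * (y₁ * y)) * w := by rw [(hc1.mul_left hc2).eq]
        _ = y₁ * (y * w) * (y₁ * (y * w)) := by group
    have hzeq : y₁ * y * (y₁ * y) = z := by
      rw [hz, hy₁inv, inv_eq_of_mul_eq_one_right hy2, mul_assoc (y₁ * y)]
    rw [hzeq] at hprod
    have hw2 : w * w = z⁻¹ := eq_inv_of_mul_eq_one_right hprod
    refine hzx ?_
    -- the square of `w` is fixed by `x`
    have hwx : x * (w * w) * x⁻¹ ∈ S.Z := by
      set t := x * w * x⁻¹ * w⁻¹ with ht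
      have htY : t ∈ S.Y Q := hx.comm_mem_Y hQ.1 hy₁P hwQ
      have htw : Commute w t := hQ.1.Y_comm htY hwQ
      have h1 : x * (w * w) * x⁻¹ = (t * t) * (w * w) := by
        calc x * (w * w) * x⁻¹ = t * (w * t) * w := by rw [ht]; group
          _ = t * (t * w) * w := by rw [htw.eq]
          _ = _ := by group
      rw [h1, hw2]
      refine mul_mem ?_ (inv_mem hzZ)
      by_cases htZ : t ∈ S.Z
      · exact mul_mem htZ htZ
      · exact hY2 t htY t htY htZ htZ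
    have := hx.commute hQ.1 hy₁P (hw2 ▸ inv_mem hzZ) hwx
    rw [hw2] at this
    simpa using this.inv_right
  intro e he
  by_cases heQ : e ∈ Q
  · exact hQ₂Q e heQ he
  have h1 : y₂ * e ∈ Q₁ := hQ₂Q _ (hQ.2 y₂ hy₂P e (hQ₂.1.2.1 he) hy₂Q heQ)
    (mul_mem (hQ₂.1.Y_le hy₂) he)
  have hy₂Q₁ : y₂ ∈ Q₁ := hy₂e ▸ mul_mem (hQ₁.1.Y_le hy₁) hq₀Q₁
  simpa using mul_mem (inv_mem hy₂Q₁) h1

theorem BadTwo.map {Q : Subgroup G} (hQ : S.BadTwo Q) {σ : MulAut G} (hσ : σ ∈ S.Γ) :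
    S.BadTwo (Q.map σ.toMonoidHom) := by
  have hZ : S.Z.map σ.toMonoidHom = S.Z :=
    eq_of_le_of_card_ge (map_le_iff_le_comap.2 fun z hz => S.inv_Z hσ hz)
      (card_map_of_injective σ.injective).ge
  refine ⟨⟨hZ ▸ map_mono hQ.1.1, inv_P_eq hσ ▸ map_mono hQ.1.2.1, fun hc => ?_⟩, ?_⟩
  · obtain ⟨s, hs, hsQ⟩ := hQ.exists_notMem
    obtain ⟨x, hx⟩ := hQ.exists_mover hs hsQ
    have hσx : σ x ∈ S.M := hc (mem_normalizer_of_conj fun w hw => by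
      obtain ⟨q, hq, rfl⟩ := hw
      exact ⟨x * q * x⁻¹, (mem_normalizer_iff.1 hx.mem q).1 hq, by simp⟩)
    refine hx.notM (S.normalizer_Z_le (mem_normalizer_of_conj fun z hz => ?_))
    have h1 := S.M_comm_Z hσx (S.inv_Z hσ hz)
    rw [← map_inv, ← map_mul, ← map_mul] at h1
    rw [σ.injective h1]
    exact hz
  · intro a ha b hb haQ hbQ
    rw [← inv_P_eq hσ] at ha hb
    obtain ⟨a, ha', rfl⟩ := ha
    obtain ⟨b, hb', rfl⟩ := hb
    exact ⟨a * b, hQ.2 a ha' b hb' (fun h => haQ ⟨a, h, rfl⟩) (fun h => hbQ ⟨b, h, rfl⟩),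
      map_mul σ a b⟩

theorem Y_map {σ : MulAut G} (hσ : σ ∈ S.Γ) (Q : Subgroup G) {y : G} (hy : y ∈ S.Y Q) :
    σ y ∈ S.Y (Q.map σ.toMonoidHom) := by
  induction hy using closure_induction with
  | mem w hw =>
    obtain ⟨h, hh, z, hz, rfl⟩ := hw
    rw [map_mul, map_mul, map_inv]
    refine conj_mem_Y (mem_normalizer_of_conj fun w hw => ?_) (S.inv_Z hσ hz)
    obtain ⟨q, hq, rfl⟩ := hw
    exact ⟨h * q * h⁻¹, (mem_normalizer_iff.1 hh q).1 hq, by simp⟩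
  | one => simp
  | mul a b _ _ ha hb => rw [map_mul]; exact mul_mem ha hb
  | inv a _ ha => rw [map_inv]; exact inv_mem ha

/-- `Γ` cannot move a bad subgroup of index two to a partner. -/
theorem BadTwo.no_partner {Q : Subgroup G} (hQ : S.BadTwo Q) {σ : MulAut G} (hσ : σ ∈ S.Γ) :
    S.Y Q ≤ Q.map σ.toMonoidHom := by
  by_contra h1
  have hQ₁ := hQ.map hσ
  have hQ₂ := hQ₁.map hσ
  have h2 : ¬ S.Y (Q.map σ.toMonoidHom) ≤ (Q.map σ.toMonoidHom).map σ.toMonoidHom := by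
    intro hc
    refine h1 fun y hy => ?_
    obtain ⟨w, hw, he⟩ := hc (Y_map hσ Q hy)
    exact σ.injective he ▸ hw
  have h3 : ¬ S.Y (Q.map σ.toMonoidHom) ≤ Q := fun hc => h1 (hQ.symm hQ₁ hc)
  have heq : (Q.map σ.toMonoidHom).map σ.toMonoidHom = Q :=
    le_antisymm (hQ₁.partner_le hQ hQ₂ h3 h2) (hQ₁.partner_le hQ₂ hQ h2 h3)
  apply h1
  have hsq : ∀ w ∈ Q, σ (σ w) ∈ Q := fun w hw => heq ▸ ⟨σ w, ⟨w, hw, rfl⟩, rfl⟩
  have hpow : ∀ n : ℕ, ∀ w ∈ Q, (σ ^ (2 * n)) w ∈ Q := by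
    intro n
    induction n with
    | zero => intro w hw; exact hw
    | succ n ih =>
      intro w hw
      rw [show 2 * (n + 1) = 2 * n + 2 by ring, pow_add, MulAut.mul_apply, pow_two,
        MulAut.mul_apply]
      exact ih _ (hsq w hw)
  obtain ⟨k, hk⟩ := S.odd_Γ σ hσ
  intro y hy
  refine ⟨(σ ^ (2 * k)) y, hpow k y (hQ.1.Y_le hy), ?_⟩
  show σ ((σ ^ (2 * k)) y) = y
  rw [← MulAut.mul_apply, ← pow_succ', ← hk, pow_orderOf_eq_one, MulAut.one_apply]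

/-- **Normal `2`-complement**, when `Γ` is closed under composition. -/
theorem npc (S : Setting G) (hmul : ∀ σ ∈ S.Γ, ∀ τ ∈ S.Γ, σ * τ ∈ S.Γ) (hone : 1 ∈ S.Γ) : Cfsg.HasNormalPComplement 2 G := by
  classical
  haveI : Fintype G := Fintype.ofFinite G
  refine S.npc_of_no_bad fun Q₀ hQ₀ => ?_
  -- a maximal bad subgroup
  obtain ⟨Q, hQb, hQmax⟩ := Set.Finite.exists_maximal (Set.toFinite {Q : Subgroup G | S.Bad Q})
    ⟨Q₀, hQ₀⟩
  have hmb : S.MaxBad Q := ⟨hQb, fun Q₁ hle hb => le_antisymm (hQmax hb hle) hle⟩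
  obtain ⟨hTwo, -⟩ := hmb.inverter
  have hQ : S.BadTwo Q := ⟨hQb, hTwo⟩
  obtain ⟨s, hs, hsQ⟩ := hQ.exists_notMem
  obtain ⟨x, hx⟩ := hQ.exists_mover hs hsQ
  set X : Subgroup G := ⨆ σ ∈ S.Γ, S.Y (Q.map σ.toMonoidHom) with hX
  have hle : ∀ σ ∈ S.Γ, S.Y (Q.map σ.toMonoidHom) ≤ Q := fun σ hσ =>
    (hQ.map hσ).symm hQ (hQ.no_partner hσ)
  have hXQ : X ≤ Q := iSup₂_le hle
  have hYX : S.Y Q ≤ X := by
    have := le_iSup₂ (f := fun σ (_ : σ ∈ S.Γ) => S.Y (Q.map σ.toMonoidHom)) 1 hone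
    intro y hy
    refine this ?_
    have e : Q.map (1 : MulAut G).toMonoidHom = Q := Subgroup.map_id Q
    rw [e]
    exact hy
  have hZX : S.Z ≤ X := (Z_le_Y Q).trans hYX
  have hXP : X ≤ (S.P : Subgroup G) := hXQ.trans hQb.2.1
  have hXne : X ≠ ⊥ := fun h => S.Z_ne_bot (le_bot_iff.1 (h ▸ hZX))
  refine hx.notM (S.loc X hXP hXne (S.le_normalizer hZX hXP) (fun τ hτ w hw => ?_)
    (mem_normalizer_of_conj fun w hw => ?_))
  · have hmap : X.map τ.toMonoidHom ≤ X := by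
      rw [hX, Subgroup.map_iSup]
      refine iSup_le fun σ => ?_
      rw [Subgroup.map_iSup]
      refine iSup_le fun hσ => ?_
      rintro _ ⟨y, hy, rfl⟩
      have h1 := Y_map hτ (Q.map σ.toMonoidHom) hy
      rw [map_map] at h1
      exact le_iSup₂ (f := fun σ (_ : σ ∈ S.Γ) => S.Y (Q.map σ.toMonoidHom)) (τ * σ)
        (hmul τ hτ σ hσ) h1
    exact hmap ⟨w, hw, rfl⟩
  · have := mul_mem (hYX (hx.comm_mem_Y hQb hs (hXQ hw))) hw
    rwa [inv_mul_cancel_right] at this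

end Setting

end CfsgLib.Frobenius.ClassTwo
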